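import Groth.Agent.Lib.ProEtWC.Glue
import Groth.Agent.Lib.WLocal.StrictWLoc
import Groth.Agent.Lib.WLocal.Contractible

/-!
Covers by affine weakly contractible objects.
-/

open CategoryTheory Limits AlgebraicGeometry Opposite

universe u

namespace Groth.Agent.ProEtWC

set_option backward.isDefEq.respectTransparency.types false
set_option linter.style.haveILetI false
set_option linter.unusedSectionVars false

variable {X : Scheme.{u}}

lemma exists_wc_over_affine (U : Scheme.{u}) [IsAffine U] :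
    ∃ (V : Scheme.{u}) (v : V ⟶ U), IsAffine V ∧ WeaklyEtale v ∧ Surjective v ∧
      EtPBC.IsWContractible Γ(V, ⊤) := by
  obtain ⟨D, _, _, hff, hD, hwc⟩ := WLocal.exists_wContractible_cover Γ(U, ⊤)
  haveI := hff
  let f := Spec.map (CommRingCat.ofHom (algebraMap Γ(U, ⊤) D))
  haveI : WeaklyEtale f :=
    WEtSch4.weaklyEtale_SpecMap_iff.2 (WEtaleH7.weaklyEtale_of_isIndEtale hD)
  haveI : Surjective f := ⟨PrimeSpectrum.comap_surjective_of_faithfullyFlat⟩
  refine ⟨Spec (CommRingCat.of D), f ≫ U.isoSpec.inv, inferInstance, inferInstance, inferInstance, ?_⟩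
  exact (isWContractible_iff_hasSections _).2 ((hasSections_spec_iff _).2 hwc)

theorem exists_affine_wc_cover (U : X.ProEt) :
    ∃ (ι : Type u) (V : ι → X.ProEt) (g : ∀ i, V i ⟶ U),
      Sieve.generate (Presieve.ofArrows V g) ∈ Scheme.ProEt.topology X U ∧
        ∀ i, IsAffine (V i).left ∧ EtPBC.IsWContractible ↥(Γ((V i).left, ⊤)) := by
  choose V v hV hv hs hwc using fun O : U.left.affineOpens ↦
    haveI : IsAffine O.1.toScheme := O.2
    exists_wc_over_affine O.1.toScheme
  haveI := hv
  refine ⟨U.left.affineOpens, fun O ↦ overObj U (v O ≫ O.1.ι), fun O ↦ overHom U (v O ≫ O.1.ι), ?_,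
    fun O ↦ ⟨hV O, hwc O⟩⟩
  refine GrothendieckTopology.transitive _
    (opens_cover_mem U (fun O : U.left.affineOpens ↦ O.1) (iSup_affineOpens_eq_top _)) _ ?_
  rintro Y f ⟨Z, a, b, ⟨O⟩, rfl⟩
  rw [Sieve.pullback_comp]
  refine GrothendieckTopology.pullback_stable _ a ?_
  haveI := hV O
  haveI := hs O
  haveI : IsAffine O.1.toScheme := O.2
  haveI : WeaklyEtale (show V O ⟶ (overObj U O.1.ι).left from v O) := hv O
  let T := overObj (overObj U O.1.ι) (show V O ⟶ (overObj U O.1.ι).left from v O)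
  let t : T ⟶ overObj U O.1.ι := overHom (overObj U O.1.ι) (show V O ⟶ (overObj U O.1.ι).left from v O)
  haveI : Surjective t.left := hs O
  haveI : QuasiCompact t.left := inferInstanceAs (QuasiCompact (v O))
  refine GrothendieckTopology.superset_covering _ ?_ (singleton_affine_mem t)
  rw [Sieve.generate_le_iff]
  rintro Y f ⟨⟩
  exact ⟨overObj U (v O ≫ O.1.ι),
    MorphismProperty.Over.homMk (A := T) (B := overObj U (v O ≫ O.1.ι)) (𝟙 _) (by simp [T]; rfl),
    overHom U (v O ≫ O.1.ι), Presieve.ofArrows.mk O,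
    MorphismProperty.Over.Hom.ext (Category.id_comp _)⟩

theorem exists_affine_wc_cover_singleton (U : X.ProEt) [CompactSpace U.left] :
    ∃ (V : X.ProEt) (g : V ⟶ U),
      Sieve.generate (Presieve.singleton g) ∈ Scheme.ProEt.topology X U ∧ IsAffine V.left ∧
        ProEtS.IsWC V := by
  obtain ⟨s, hs⟩ := CompactSpace.elim_nhds_subcover
    (fun x : U.left ↦ ((U.left.affineCover.f (U.left.affineCover.idx x)).opensRange : Set U.left))
    fun x ↦ (U.left.affineCover.f (U.left.affineCover.idx x)).opensRange.isOpen.mem_nhds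
      (U.left.affineCover.covers x)
  let O : s → U.left.Opens := fun i ↦ (U.left.affineCover.f (U.left.affineCover.idx i.1)).opensRange
  haveI : ∀ i, IsAffine (O i).toScheme := fun i ↦ isAffineOpen_opensRange _
  let w := Sigma.desc fun i ↦ (O i).ι
  haveI : WeaklyEtale w := IsZariskiLocalAtSource.sigmaDesc fun i ↦ inferInstance
  obtain ⟨V, v, _, _, _, hwc⟩ := exists_wc_over_affine (∐ fun i ↦ (O i).toScheme)
  let W := overObj U w
  let v' : V ⟶ W.left := v
  haveI : WeaklyEtale v' := ‹WeaklyEtale v›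
  let T := overObj W v'
  let t : T ⟶ W := overHom W v'
  haveI : IsAffine T.left := ‹IsAffine V›
  haveI : Surjective t.left := ‹Surjective v›
  haveI : QuasiCompact t.left := inferInstanceAs (QuasiCompact v)
  refine ⟨T, t ≫ overHom U w, ?_, inferInstance,
    (isWC_iff_hasSections T).2 ((isWContractible_iff_hasSections V).1 hwc)⟩
  have hw : Sieve.generate (Presieve.singleton (overHom U w)) ∈ Scheme.ProEt.topology X U := by
    refine mem_of_opens O (eq_top_iff.2 fun x _ ↦ ?_) fun i ↦
      arrows_of_comm (overHom U w) (Sieve.le_generate _ _ _ (Presieve.singleton_self _))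
        (Sigma.ι (fun i ↦ (O i).toScheme) i) (Sigma.ι_desc _ _)
    have hx : x ∈ (⊤ : Set U.left) := trivial
    rw [← hs] at hx
    obtain ⟨i, hi, hxi⟩ := Set.mem_iUnion₂.1 hx
    exact TopologicalSpace.Opens.mem_iSup.2 ⟨⟨i, hi⟩, hxi⟩
  refine GrothendieckTopology.transitive _ hw _ ?_
  rintro Y f ⟨Z, a, b, hb, rfl⟩
  obtain ⟨⟩ := hb
  rw [Sieve.pullback_comp]
  refine GrothendieckTopology.pullback_stable _ a
    (GrothendieckTopology.superset_covering _ ?_ (singleton_affine_mem t))
  rw [Sieve.generate_le_iff]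
  rintro Y f ⟨⟩
  exact Sieve.le_generate _ _ _ (Presieve.singleton_self _)

theorem exists_wc_cover (U : X.ProEt) :
    ∃ (V : X.ProEt) (g : V ⟶ U),
      Sieve.generate (Presieve.singleton g) ∈ Scheme.ProEt.topology X U ∧ ProEtS.IsWC V := by
  obtain ⟨ι, V, g, hg, hV⟩ := exists_affine_wc_cover U
  let w := Sigma.desc fun i ↦ (g i).left
  haveI : WeaklyEtale w := IsZariskiLocalAtSource.sigmaDesc fun i ↦ weaklyEtale_left (g i)
  have hfac : ∀ i, Sigma.ι (fun i ↦ (V i).left) i ≫ w = (g i).left := fun i ↦ Sigma.ι_desc _ i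
  let j : ∀ i, V i ⟶ overObj U w := fun i ↦
    MorphismProperty.Over.homMk (Sigma.ι (fun i ↦ (V i).left) i) (by
      show Sigma.ι (fun i ↦ (V i).left) i ≫ w ≫ U.hom = (V i).hom
      rw [← Category.assoc, hfac, MorphismProperty.Over.w])
  refine ⟨overObj U w, overHom U w, ?_, ?_⟩
  · refine GrothendieckTopology.superset_covering _ ?_ hg
    rw [Sieve.generate_le_iff, Presieve.ofArrows_le_iff]
    intro i
    exact ⟨overObj U w, j i, overHom U w, Presieve.singleton_self _,
      MorphismProperty.Over.Hom.ext (hfac i)⟩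
  · intro F G φ hφ s
    haveI : ∀ i, IsOpenImmersion (j i).left := fun i ↦
      inferInstanceAs (IsOpenImmersion (Sigma.ι (fun i ↦ (V i).left) i))
    have hd : Pairwise fun i i' ↦ Disjoint (Set.range (j i).left) (Set.range (j i').left) :=
      fun i i' h ↦ TopologicalSpace.Opens.coe_disjoint.2
        (disjoint_opensRange_sigmaι (fun i ↦ (V i).left) i i' h)
    have hs' : ∀ x : (overObj U w).left, ∃ i, x ∈ Set.range (j i).left := fun x ↦ by
      obtain ⟨i, y, hy⟩ := (sigmaOpenCover fun i ↦ (V i).left).exists_eq x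
      exact ⟨i, y, hy⟩
    have hwcV : ∀ i, ProEtS.IsWC (V i) := fun i ↦
      haveI := (hV i).1
      (isWC_iff_hasSections (V i)).2 ((isWContractible_iff_hasSections _).1 (hV i).2)
    choose t ht using fun i ↦ hwcV i F G φ hφ (G.obj.map (j i).op s)
    obtain ⟨τ, hτ⟩ := (bijective_restrict V j hd hs' F).2 t
    refine ⟨τ, (bijective_restrict V j hd hs' G).1 (funext fun i ↦ ?_)⟩
    show G.obj.map (j i).op (φ.hom.app _ τ) = G.obj.map (j i).op s
    rw [← NatTrans.naturality_apply φ.hom, show F.obj.map (j i).op τ = t i from congrFun hτ i]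
    exact ht i

end Groth.Agent.ProEtWC
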