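import Groth.Agent.Lib.ProEtWC.Basic

/-!
Continuity of the comparison with the étale site and of base change for pro-étale sites.
-/

open CategoryTheory Limits AlgebraicGeometry Opposite

universe u

namespace Groth.Agent.ProEtWC

set_option backward.isDefEq.respectTransparency.types false
set_option linter.style.haveILetI false

instance preservesFiniteLimits_eps (X : Scheme.{u}) : PreservesFiniteLimits (ProEtS.eps X) := by
  have h : PreservesFiniteLimits (ProEtS.eps X ⋙ Scheme.ProEt.forget X) :=
    preservesFiniteLimits_of_natIso (F := Scheme.Etale.forget X) (Iso.refl _)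
  exact preservesFiniteLimits_of_reflects_of_preserves (ProEtS.eps X) (Scheme.ProEt.forget X)

instance preservesFiniteLimits_bcP {X Y : Scheme.{u}} (f : X ⟶ Y) :
    PreservesFiniteLimits (ProEtS.bcP f) := by
  have h : PreservesFiniteLimits (ProEtS.bcP f ⋙ Scheme.ProEt.forget X) := by
    let e : ProEtS.bcP f ⋙ Scheme.ProEt.forget X ≅ Scheme.ProEt.forget Y ⋙ Over.pullback f :=
      MorphismProperty.Over.pullbackCompForgetIso (P := @WeaklyEtale) (Q := ⊤) f
    exact preservesFiniteLimits_of_natIso e.symm
  exact preservesFiniteLimits_of_reflects_of_preserves (ProEtS.bcP f) (Scheme.ProEt.forget X)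

lemma coverPreserving_eps (X : Scheme.{u}) :
    CoverPreserving X.smallEtaleTopology (Scheme.ProEt.topology X) (ProEtS.eps X) := by
  constructor
  intro U S hS
  have eX : X.smallEtaleTopology =
      (X.smallPretopology (P := EtCoh.etaleMP) (Q := EtCoh.etaleMP)).toGrothendieck :=
    Scheme.smallGrothendieckTopology_eq_toGrothendieck_smallPretopology X le_rfl
  rw [eX] at hS
  choose V g v hg he hv using (Scheme.mem_toGrothendieck_smallPretopology U S).1 hS
  refine GrothendieckTopology.superset_covering _ ?_
    (cover_mem (fun x ↦ (ProEtS.eps X).obj (V x)) (fun x ↦ (ProEtS.eps X).map (g x))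
      (QuasiCompactCover.of_isOpenMap (𝒰 := Scheme.Cover.mkOfCovers (P := @Etale) U.left
        (fun x ↦ (V x).left) (fun x ↦ (g x).left) (fun x ↦ ⟨x, v x, hv x⟩) he)
        fun x ↦ by
          haveI : Etale (g x).left := he x
          exact (g x).left.isOpenMap)
      fun x ↦ ⟨x, v x, hv x⟩)
  rw [Sieve.generate_le_iff, Presieve.ofArrows_le_iff]
  exact fun x ↦ Sieve.image_mem_functorPushforward _ _ (hg x)

lemma isPullback_bcP_map {X Y : Scheme.{u}} (f : X ⟶ Y) {U V : Y.ProEt} (g : V ⟶ U) :
    IsPullback ((ProEtS.bcP f).map g).left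
      (pullback.fst V.hom f : ((ProEtS.bcP f).obj V).left ⟶ V.left)
      (pullback.fst U.hom f : ((ProEtS.bcP f).obj U).left ⟶ U.left) g.left := by
  have e1 : ((ProEtS.bcP f).map g).left ≫ pullback.snd U.hom f = pullback.snd V.hom f :=
    pullback.lift_snd _ _ _
  have e2 : g.left ≫ U.hom = V.hom := MorphismProperty.Over.w g
  refine IsPullback.of_right (h₁₂ := pullback.snd U.hom f) (v₁₃ := f) (h₂₂ := U.hom) ?_ ?_
    (IsPullback.of_hasPullback U.hom f).flip
  · exact (congrArg₂ (fun a d => IsPullback a (pullback.fst V.hom f) f d) e1 e2).mpr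
      (IsPullback.of_hasPullback V.hom f).flip
  · exact pullback.lift_fst _ _ _

lemma coverPreserving_bcP {X Y : Scheme.{u}} (f : X ⟶ Y) :
    CoverPreserving (Scheme.ProEt.topology Y) (Scheme.ProEt.topology X) (ProEtS.bcP f) := by
  constructor
  intro U S hS
  haveI : PreservesLimitsOfShape WalkingCospan (Scheme.ProEt.forget Y ⋙ Over.forget Y) :=
    comp_preservesLimitsOfShape _ _
  haveI : (Scheme.ProEt.precoverage Y).IsStableUnderComposition :=
    inferInstanceAs (Scheme.proetalePrecoverage.comap _).IsStableUnderComposition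
  haveI : (Scheme.ProEt.precoverage Y).IsStableUnderBaseChange :=
    inferInstanceAs (Scheme.proetalePrecoverage.comap _).IsStableUnderBaseChange
  haveI : (Scheme.ProEt.precoverage Y).HasIsos :=
    inferInstanceAs (Scheme.proetalePrecoverage.comap _).HasIsos
  obtain ⟨T, hT, hle⟩ := Precoverage.mem_toGrothendieck_iff_of_isStableUnderComposition.1 hS
  obtain ⟨ι, V, g, rfl⟩ := T.exists_eq_ofArrows
  have hT' : (Presieve.ofArrows V g).map (Scheme.ProEt.forget Y ⋙ Over.forget Y) ∈
    Scheme.proetalePrecoverage U.left := hT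
  rw [Presieve.map_ofArrows] at hT'
  refine GrothendieckTopology.superset_covering _
    (S := Sieve.generate (Presieve.ofArrows (fun i ↦ (ProEtS.bcP f).obj (V i))
      fun i ↦ (ProEtS.bcP f).map (g i))) ?_ (Precoverage.generate_mem_toGrothendieck ?_)
  · rw [Sieve.generate_le_iff, Presieve.ofArrows_le_iff]
    exact fun i ↦ Sieve.image_mem_functorPushforward _ _ (hle _ _ ⟨i⟩)
  · show (Presieve.ofArrows (fun i ↦ (ProEtS.bcP f).obj (V i))
      fun i ↦ (ProEtS.bcP f).map (g i)).map (Scheme.ProEt.forget X ⋙ Over.forget X) ∈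
      Scheme.proetalePrecoverage ((ProEtS.bcP f).obj U).left
    rw [Presieve.map_ofArrows]
    exact Precoverage.mem_coverings_of_isPullback _ hT'
      (pullback.fst U.hom f : ((ProEtS.bcP f).obj U).left ⟶ U.left) _ _
      fun i ↦ isPullback_bcP_map f (g i)

theorem epsCont (X : Scheme.{u}) : ProEtS.EpsCont X :=
  haveI : RepresentablyFlat (ProEtS.eps X) := flat_of_preservesFiniteLimits _
  Functor.isContinuous_of_coverPreserving (compatiblePreservingOfFlat _ _) (coverPreserving_eps X)

theorem pCont {X Y : Scheme.{u}} (f : X ⟶ Y) : ProEtS.PCont f :=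
  haveI : RepresentablyFlat (ProEtS.bcP f) := flat_of_preservesFiniteLimits _
  Functor.isContinuous_of_coverPreserving (compatiblePreservingOfFlat _ _) (coverPreserving_bcP f)

end Groth.Agent.ProEtWC
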