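import Groth.Agent.Lib.ProEtWC.Basic
import Mathlib.AlgebraicGeometry.Limits
import Mathlib.CategoryTheory.Sites.LocallySurjective
import Mathlib.CategoryTheory.Sites.Subcanonical

/-!
Sections of pro-étale sheaves over disjoint unions; weakly contractible objects.
-/

open CategoryTheory Limits AlgebraicGeometry Opposite

universe u w

namespace Groth.Agent.ProEtWC

set_option backward.isDefEq.respectTransparency.types false
set_option linter.style.haveILetI false
set_option linter.unusedSectionVars false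

variable {X : Scheme.{u}}

lemma subsingleton_of_isEmpty (F : Sheaf (Scheme.ProEt.topology X) (Type w)) (Z : X.ProEt)
    [IsEmpty Z.left] : Subsingleton (F.obj.obj (op Z)) := by
  have h := (isSheaf_iff_isSheaf_of_type _ _).1 F.property ⊥ (Scheme.ProEt.bot_mem_topology Z)
  exact ⟨fun a b ↦ h.isSeparatedFor.ext fun _ _ hf ↦ hf.elim⟩

lemma mem_of_opens {U : X.ProEt} {R : Sieve U} {ι : Type u} (O : ι → U.left.Opens)
    (hO : iSup O = ⊤) (h : ∀ i, R.arrows (overHom U (O i).ι)) :
    R ∈ Scheme.ProEt.topology X U := by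
  refine GrothendieckTopology.superset_covering _ ?_ (opens_cover_mem U O hO)
  rw [Sieve.generate_le_iff, Presieve.ofArrows_le_iff]
  exact h

lemma openImmersions_cover_mem {U : X.ProEt} {ι : Type u} (V : ι → X.ProEt) (g : ∀ i, V i ⟶ U)
    [∀ i, IsOpenImmersion (g i).left] (hs : ∀ x : U.left, ∃ i, x ∈ Set.range (g i).left) :
    Sieve.generate (Presieve.ofArrows V g) ∈ Scheme.ProEt.topology X U := by
  refine mem_of_opens (fun i ↦ (g i).left.opensRange) ?_ fun i ↦
    arrows_of_comm (g i) (Sieve.le_generate _ _ _ (Presieve.ofArrows.mk i))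
      (IsOpenImmersion.lift (g i).left _ (Scheme.Opens.range_ι _).subset)
      (IsOpenImmersion.lift_fac _ _ _)
  refine eq_top_iff.2 fun x _ ↦ ?_
  exact TopologicalSpace.Opens.mem_iSup.2 (hs x)

/-- Sections of a sheaf over a disjoint union. -/
lemma bijective_restrict {U : X.ProEt} {ι : Type u} (V : ι → X.ProEt) (g : ∀ i, V i ⟶ U)
    [∀ i, IsOpenImmersion (g i).left]
    (hd : Pairwise fun i j ↦ Disjoint (Set.range (g i).left) (Set.range (g j).left))
    (hs : ∀ x : U.left, ∃ i, x ∈ Set.range (g i).left)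
    (F : Sheaf (Scheme.ProEt.topology X) (Type w)) :
    Function.Bijective fun (t : F.obj.obj (op U)) (i : ι) ↦ F.obj.map (g i).op t := by
  have h := (Presieve.isSheafFor_arrows_iff _ _).1 ((Presieve.isSheafFor_iff_generate _).2
    ((isSheaf_iff_isSheaf_of_type _ _).1 F.property _ (openImmersions_cover_mem V g hs)))
  have hcomp : ∀ x : (i : ι) → F.obj.obj (op (V i)), Presieve.Arrows.Compatible F.obj g x := by
    intro x i j Z a b hab
    by_cases hij : i = j
    · subst hij
      have : a = b := by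
        apply MorphismProperty.Over.Hom.ext
        exact (cancel_mono (g i).left).1
          (congrArg (fun e ↦ CommaMorphism.left (MorphismProperty.Comma.Hom.hom e)) hab)
      rw [this]
    · haveI : IsEmpty Z.left := ⟨fun z ↦ by
        have h1 : (g i).left (a.left z) = (g j).left (b.left z) :=
          congr($(congrArg (fun e ↦ CommaMorphism.left (MorphismProperty.Comma.Hom.hom e)) hab) z)
        exact Set.disjoint_iff_forall_ne.1 (hd hij) ⟨_, rfl⟩ ⟨_, h1.symm⟩ rfl⟩
      exact (subsingleton_of_isEmpty F Z).elim _ _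
  constructor
  · intro t t' htt
    exact (h _ (hcomp fun i ↦ F.obj.map (g i).op t')).unique (fun i ↦ congrFun htt i) fun _ ↦ rfl
  · intro x
    obtain ⟨t, ht, -⟩ := h x (hcomp x)
    exact ⟨t, funext ht⟩

/-- Every covering sieve is refined by a decomposition into clopen pieces. -/
def RefinedByClopen (U : X.ProEt) : Prop :=
  ∀ R ∈ Scheme.ProEt.topology X U, ∃ (n : ℕ) (W : Fin n → U.left.Opens),
    (∀ k, IsClopen ((W k : Set ↥U.left))) ∧
    Pairwise (fun k l => Disjoint (W k : Set ↥U.left) (W l)) ∧ (⋃ k, (W k : Set ↥U.left)) = Set.univ ∧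
    ∀ k, R.arrows (MorphismProperty.Over.homMk (W k).ι : Scheme.ProEt.mk ((W k).ι ≫ U.hom) ⟶ U)

lemma refinedByClopen_of_hasSections {U : X.ProEt} [IsAffine U.left] (h : HasSections U.left) :
    RefinedByClopen U := by
  intro R hR
  obtain ⟨ι, _, B, b, hb, hB, hcov, hR'⟩ := exists_affine_refinement hR
  haveI := hB
  haveI : WeaklyEtale (Sigma.desc b) := IsZariskiLocalAtSource.sigmaDesc hb
  haveI : Surjective (Sigma.desc b) := Surjective.sigmaDesc_of_union_range_eq_univ
    (Set.eq_univ_of_forall fun x ↦ Set.mem_iUnion.2 (by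
      obtain ⟨i, y, hy⟩ := hcov x
      exact ⟨i, y, hy⟩))
  obtain ⟨σ, hσ⟩ := h _ (Sigma.desc b) inferInstance inferInstance inferInstance
  let e := Finite.equivFin ι
  let W : Fin (Nat.card ι) → U.left.Opens := fun k ↦ σ ⁻¹ᵁ (Sigma.ι B (e.symm k)).opensRange
  have huniv : ∀ x : U.left, ∃ k, x ∈ W k := by
    intro x
    obtain ⟨i, y, hy⟩ := (sigmaOpenCover B).exists_eq (σ x)
    refine ⟨e i, show σ x ∈ Set.range (Sigma.ι B (e.symm (e i))) from ?_⟩
    rw [e.symm_apply_apply i]
    exact ⟨y, hy⟩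
  have hdisj : Pairwise fun k l ↦ Disjoint (W k : Set U.left) (W l) := by
    intro k l hkl
    refine Set.disjoint_left.2 fun x hk hl ↦ ?_
    exact Set.disjoint_left.1 (TopologicalSpace.Opens.coe_disjoint.2
      (disjoint_opensRange_sigmaι B _ _ (e.symm.injective.ne hkl))) hk hl
  refine ⟨_, W, fun k ↦ ⟨?_, (W k).isOpen⟩, hdisj, Set.eq_univ_of_forall fun x ↦
    Set.mem_iUnion.2 (huniv x), fun k ↦ ?_⟩
  · rw [← isOpen_compl_iff, show ((W k : Set U.left))ᶜ = ⋃ l ≠ k, (W l : Set U.left) from ?_]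
    · exact isOpen_biUnion fun l _ ↦ (W l).isOpen
    ext x
    simp only [Set.mem_compl_iff, Set.mem_iUnion, exists_prop]
    constructor
    · intro hx
      obtain ⟨l, hl⟩ := huniv x
      exact ⟨l, fun e ↦ hx (e ▸ hl), hl⟩
    · rintro ⟨l, hl, hxl⟩ hxk
      exact Set.disjoint_left.1 (hdisj hl) hxl hxk
  · let a := IsOpenImmersion.lift (Sigma.ι B (e.symm k)) ((W k).ι ≫ σ) (by
      rintro _ ⟨z, rfl⟩
      exact z.2)
    have ha : a ≫ b (e.symm k) = (W k).ι := by
      rw [← Sigma.ι_desc b (e.symm k), ← Category.assoc, IsOpenImmersion.lift_fac, Category.assoc,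
        hσ, Category.comp_id]
    exact arrows_of_comm (overHom U (b (e.symm k))) (hR' (e.symm k)) a ha

lemma isWC_of_refinedByClopen {U : X.ProEt} (h : RefinedByClopen U) : ProEtS.IsWC U := by
  intro F G φ _ s
  haveI : Sheaf.IsLocallySurjective φ := (Sheaf.isLocallySurjective_iff_epi φ).2 inferInstance
  obtain ⟨n, W, -, hd, hu, hW⟩ := h _ (Presheaf.imageSieve_mem (Scheme.ProEt.topology X) φ.hom s)
  choose t ht using hW
  let V : ULift.{u} (Fin n) → X.ProEt := fun k ↦ overObj U (W k.down).ι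
  let g : ∀ k, V k ⟶ U := fun k ↦ overHom U (W k.down).ι
  haveI : ∀ k, IsOpenImmersion (g k).left := fun k ↦ inferInstanceAs (IsOpenImmersion (W k.down).ι)
  have hd' : Pairwise fun i j ↦ Disjoint (Set.range (g i).left) (Set.range (g j).left) := by
    intro i j hij
    change Disjoint (Set.range (W i.down).ι) (Set.range (W j.down).ι)
    rw [Scheme.Opens.range_ι, Scheme.Opens.range_ι]
    exact hd fun h ↦ hij (ULift.ext _ _ h)
  have hs' : ∀ x : U.left, ∃ i, x ∈ Set.range (g i).left := fun x ↦ by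
    obtain ⟨k, hk⟩ := Set.mem_iUnion.1 (hu.ge (Set.mem_univ x))
    exact ⟨⟨k⟩, (Scheme.Opens.range_ι _).ge hk⟩
  obtain ⟨τ, hτ⟩ := (bijective_restrict V g hd' hs' F).2 fun k ↦ t k.down
  refine ⟨τ, (bijective_restrict V g hd' hs' G).1 (funext fun k ↦ ?_)⟩
  show G.obj.map (g k).op (φ.hom.app _ τ) = G.obj.map (g k).op s
  rw [← NatTrans.naturality_apply φ.hom, show F.obj.map (g k).op τ = t k.down from congrFun hτ k]
  exact ht k.down

lemma hasSections_of_isWC {U : X.ProEt} [IsAffine U.left] (h : ProEtS.IsWC U) :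
    HasSections U.left := by
  intro W w _ _ _
  let V := overObj U w
  let g : V ⟶ U := overHom U w
  haveI : Surjective g.left := ‹Surjective w›
  haveI : QuasiCompact g.left := inferInstanceAs (QuasiCompact w)
  let φ := (Scheme.ProEt.topology X).uliftYoneda.{u + 1}.map g
  haveI : Sheaf.IsLocallySurjective φ := ⟨fun {Z} s ↦ by
    refine GrothendieckTopology.superset_covering _ ?_
      ((Scheme.ProEt.topology X).pullback_stable s.down (singleton_affine_mem g))
    rintro Y f ⟨Y', a, b, hb, hab⟩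
    obtain ⟨⟩ := hb
    exact ⟨⟨a⟩, ULift.ext _ _ hab⟩⟩
  obtain ⟨σ, hσ⟩ := h _ _ φ ((Sheaf.isLocallySurjective_iff_epi φ).1 inferInstance) ⟨𝟙 U⟩
  exact ⟨σ.down.left, congrArg (fun e ↦ CommaMorphism.left (MorphismProperty.Comma.Hom.hom e))
    (congrArg ULift.down hσ)⟩

theorem isWC_iff_hasSections (U : X.ProEt) [IsAffine U.left] :
    ProEtS.IsWC U ↔ HasSections U.left :=
  ⟨hasSections_of_isWC, fun h ↦ isWC_of_refinedByClopen (refinedByClopen_of_hasSections h)⟩

theorem isWC_iff_refinedByClopen (U : X.ProEt) [IsAffine U.left] :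
    ProEtS.IsWC U ↔ RefinedByClopen U :=
  ⟨fun h ↦ refinedByClopen_of_hasSections (hasSections_of_isWC h), isWC_of_refinedByClopen⟩

end Groth.Agent.ProEtWC
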