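import Groth.Agent.Lib.ProEtWC.ClosedPieces
import Groth.Agent.Lib.ProEtWC.Cont
import Mathlib.CategoryTheory.Functor.KanExtension.Adjunction
import Mathlib.CategoryTheory.Functor.Flat
import Mathlib.CategoryTheory.Sites.LocallyBijective
import Mathlib.CategoryTheory.Adjunction.FullyFaithful

/-!
Direct image along a closed immersion is fully faithful on pro-étale sheaves.
-/

open CategoryTheory Limits AlgebraicGeometry Opposite Set Topology

universe u

namespace Groth.Agent.ProEtWC

set_option backward.isDefEq.respectTransparency.types false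
set_option linter.style.haveILetI false

variable {Z X : Scheme.{u}}

lemma mem_of_pieces {U : Z.ProEt} {R : Sieve U}
    (h : ∀ (W : Z.ProEt) (f : W ⟶ U), IsAffine W.left → HasSections W.left →
      ∃ (ι : Type u) (Wk : ι → Z.ProEt) (g : ∀ k, Wk k ⟶ W),
        (∀ k, IsOpenImmersion (g k).left) ∧ (∀ x : W.left, ∃ k, x ∈ range (g k).left) ∧
        ∀ k, R.arrows (g k ≫ f)) :
    R ∈ Scheme.ProEt.topology Z U := by
  obtain ⟨ι, V, gU, hgU, hV⟩ := exists_affine_wc_cover U
  refine GrothendieckTopology.transitive _ hgU _ ?_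
  rintro Y f ⟨Z', a, b, ⟨j⟩, rfl⟩
  rw [Sieve.pullback_comp]
  refine GrothendieckTopology.pullback_stable _ a ?_
  haveI := (hV j).1
  obtain ⟨κ, Wk, g, hgo, hgc, hgR⟩ :=
    h (V j) (gU j) (hV j).1 ((isWContractible_iff_hasSections _).1 (hV j).2)
  haveI := hgo
  refine GrothendieckTopology.superset_covering _ ?_ (openImmersions_cover_mem Wk g hgc)
  rw [Sieve.generate_le_iff, Presieve.ofArrows_le_iff]
  exact hgR

variable (i : Z ⟶ X) [IsClosedImmersion i]

lemma W_lanCounit (G : ProEtS.AbP Z) :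
    (Scheme.ProEt.topology Z).W
      (((ProEtS.bcP i).op.lanAdjunction AddCommGrpCat.{u + 1}).counit.app G.obj) := by
  let L := (ProEtS.bcP i).op
  let H := L ⋙ G.obj
  let P := L.lan.obj H
  let η : H ⟶ L ⋙ P := L.lanUnit.app H
  let ε : P ⟶ G.obj := (L.lanAdjunction AddCommGrpCat.{u + 1}).counit.app G.obj
  haveI : RepresentablyFlat (ProEtS.bcP i) := flat_of_preservesFiniteLimits _
  haveI hfil : ∀ W : Z.ProEt, IsFiltered (CostructuredArrow L (op W)) := fun W ↦
    IsFiltered.of_equivalence (structuredArrowOpEquivalence (ProEtS.bcP i) W)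
  haveI : PreservesFilteredColimitsOfSize.{u + 1, u + 1} (CategoryTheory.forget AddCommGrpCat.{u + 1}) :=
    inferInstance
  haveI : PreservesFilteredColimitsOfSize.{u, u + 1} (CategoryTheory.forget AddCommGrpCat.{u + 1}) :=
    preservesFilteredColimitsOfSize_of_univLE.{u + 1, u + 1} _
  haveI : ∀ W : Z.ProEt, PreservesColimitsOfShape (CostructuredArrow L (op W))
      (CategoryTheory.forget AddCommGrpCat.{u + 1}) := fun W ↦
    PreservesFilteredColimitsOfSize.preserves_filtered_colimits _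
  have hεη : ∀ (K : X.ProEtᵒᵖ) (x : H.obj K), ε.app (L.obj K) (η.app K x) = x := fun K x ↦
    ConcreteCategory.congr_hom (L.lanUnit_app_app_lanAdjunction_counit_app_app G.obj K) x
  have hε : ∀ {W : Z.ProEt} {V : X.ProEt} (a : W ⟶ (ProEtS.bcP i).obj V) (x : H.obj (op V)),
      ε.app (op W) (P.map a.op (η.app (op V) x)) = G.obj.map a.op x := fun a x ↦ by
    rw [NatTrans.naturality_apply ε]
    exact congrArg _ (hεη _ x)
  rw [GrothendieckTopology.W_iff_isLocallyBijective]
  refine ⟨⟨fun {U} z z' hzz ↦ ?_⟩, ⟨fun {U} s ↦ ?_⟩⟩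
  · refine mem_of_pieces fun W f hW hWs ↦ ?_
    haveI := hW
    obtain ⟨K, x, hx⟩ := Concrete.isColimit_exists_rep _
      (Functor.isPointwiseLeftKanExtensionLeftKanExtensionUnit L H (op W))
      (P.map f.op z - P.map f.op z')
    let a : W ⟶ (ProEtS.bcP i).obj K.left.unop := K.hom.unop
    have hx' : P.map a.op (η.app K.left x) = P.map f.op z - P.map f.op z' := hx
    have hax : G.obj.map a.op x = 0 := by
      rw [← hε a x]
      show ε.app (op W) (P.map a.op (η.app K.left x)) = 0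
      rw [hx', map_sub, NatTrans.naturality_apply ε, NatTrans.naturality_apply ε, sub_eq_zero]
      exact congrArg _ hzz
    obtain ⟨ι, _, Wk, g, hgo, -, hgc, hk⟩ := exists_local_lift i W hWs K.left.unop a
    refine ⟨ι, Wk, g, hgo, hgc, fun k ↦ ?_⟩
    obtain ⟨Vk, h, σ, r, hσr, hr⟩ := hk k
    show P.map (g k ≫ f).op z = P.map (g k ≫ f).op z'
    rw [← sub_eq_zero, op_comp, Functor.map_comp_apply, Functor.map_comp_apply, ← map_sub, ← hx']
    have hga : g k ≫ a = σ ≫ (ProEtS.bcP i).map h := by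
      rw [← hr, ← Category.assoc σ, hσr, Category.id_comp]
    rw [← Functor.map_comp_apply, ← op_comp, hga, op_comp, Functor.map_comp_apply]
    have n1 : η.app (op Vk) (H.map h.op x) = P.map ((ProEtS.bcP i).map h).op (η.app K.left x) :=
      NatTrans.naturality_apply η h.op x
    rw [← n1]
    have hz : H.map h.op x = 0 := by
      show G.obj.map ((ProEtS.bcP i).map h).op x = 0
      rw [← hr, op_comp, op_comp, Functor.map_comp_apply, Functor.map_comp_apply]
      exact (congrArg (fun t ↦ G.obj.map r.op (G.obj.map (g k).op t)) hax).trans (by simp)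
    rw [hz, map_zero, map_zero]
  · refine mem_of_pieces fun W f hW hWs ↦ ?_
    haveI := hW
    let a : W ⟶ (ProEtS.bcP i).obj (ProEtS.topP X) :=
      MorphismProperty.Over.homMk (pullback.lift (W.hom ≫ i) W.hom (Category.comp_id _)) (pullback.lift_snd _ _ _)
    obtain ⟨ι, _, Wk, g, hgo, -, hgc, hk⟩ := exists_local_lift i W hWs (ProEtS.topP X) a
    refine ⟨ι, Wk, g, hgo, hgc, fun k ↦ ?_⟩
    obtain ⟨Vk, h, σ, r, hσr, hr⟩ := hk k
    refine ⟨P.map σ.op (η.app (op Vk) (G.obj.map r.op (G.obj.map (g k ≫ f).op s))), ?_⟩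
    rw [hε σ]
    show G.obj.map σ.op (G.obj.map r.op _) = G.obj.map (g k ≫ f).op s
    rw [← Functor.map_comp_apply, ← op_comp, hσr, op_id]
    simp

variable [ProEtS.PCont i]

theorem bijective_pushP_map (G G' : ProEtS.AbP Z) :
    Function.Bijective fun φ : G ⟶ G' ↦ (ProEtS.pushP i).map φ := by
  let L := (ProEtS.bcP i).op
  let adj := L.lanAdjunction AddCommGrpCat.{u + 1}
  let ε : L.lan.obj (L ⋙ G.obj) ⟶ G.obj := adj.counit.app G.obj
  let e₁ : (G ⟶ G') ≃ (G.obj ⟶ G'.obj) := (fullyFaithfulSheafToPresheaf _ _).homEquiv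
  let e₂ : (G.obj ⟶ G'.obj) ≃ (L.lan.obj (L ⋙ G.obj) ⟶ G'.obj) :=
    Equiv.ofBijective _ (W_lanCounit i G G'.obj G'.property)
  let e₃ := adj.homEquiv (L ⋙ G.obj) G'.obj
  let e₄ : ((ProEtS.pushP i).obj G ⟶ (ProEtS.pushP i).obj G') ≃ (L ⋙ G.obj ⟶ L ⋙ G'.obj) :=
    (fullyFaithfulSheafToPresheaf _ _).homEquiv
  convert (((e₁.trans e₂).trans e₃).trans e₄.symm).bijective using 1
  funext φ
  apply e₄.injective
  rw [Equiv.trans_apply, Equiv.apply_symm_apply]
  show Functor.whiskerLeft L φ.hom = adj.homEquiv _ _ (ε ≫ φ.hom)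
  rw [Adjunction.homEquiv_unit, Functor.map_comp]
  exact ((congrArg (· ≫ Functor.whiskerLeft L φ.hom)
    (adj.right_triangle_components G.obj)).trans (Category.id_comp _)).symm.trans (Category.assoc _ _ _)

theorem isIso_counit_pullPush (F : ProEtS.AbP Z) : IsIso ((ProEtS.pullPushAdjP i).counit.app F) := by
  haveI : (ProEtS.pushP i).Faithful := ⟨fun h ↦ (bijective_pushP_map i _ _).1 h⟩
  haveI : (ProEtS.pushP i).Full := ⟨fun φ ↦ (bijective_pushP_map i _ _).2 φ⟩
  infer_instance

end Groth.Agent.ProEtWC
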