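import Groth.Agent.Lib.ProEtWC.Cont
import Mathlib.CategoryTheory.Functor.Flat
import Mathlib.Algebra.Category.Grp.AB
import Mathlib.CategoryTheory.Sites.Pullback

/-!
Inverse image of abelian pro-étale sheaves is exact.
-/

open CategoryTheory Limits AlgebraicGeometry Opposite

universe w v v' u u' u''

namespace Groth.Agent.ProEtWC

set_option backward.isDefEq.respectTransparency.types false
set_option linter.style.haveILetI false
set_option linter.unusedSectionVars false

section

variable {C : Type u'} [Category.{v'} C] {D : Type u''} [Category.{v'} D]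
  {E : Type u} [Category.{v} E]

set_option backward.defeqAttrib.useBackward true in
set_option backward.isDefEq.respectTransparency false in
/-- Evaluation of the left Kan extension is a colimit, naturally. -/
noncomputable def lanEvalIso (F : C ⥤ D) [∀ G : C ⥤ E, F.HasPointwiseLeftKanExtension G] (X : D)
    [HasColimitsOfShape (CostructuredArrow F X) E] :
    F.lan ⋙ (evaluation D E).obj X ≅
      (Functor.whiskeringLeft _ _ E).obj (CostructuredArrow.proj F X) ⋙ colim :=
  NatIso.ofComponents (fun G =>
    IsColimit.coconePointUniqueUpToIso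
    (Functor.isPointwiseLeftKanExtensionLeftKanExtensionUnit F G X)
    (colimit.isColimit _)) (fun {G₁ G₂} φ => by
      apply (Functor.isPointwiseLeftKanExtensionLeftKanExtensionUnit F G₁ X).hom_ext
      intro T
      have h₁ := fun (G : C ⥤ E) => IsColimit.comp_coconePointUniqueUpToIso_hom
        (Functor.isPointwiseLeftKanExtensionLeftKanExtensionUnit F G X) (colimit.isColimit _) T
      have h₂ := congr_app (F.lanUnit.naturality φ) T.left
      dsimp at h₁ h₂ ⊢
      simp only [Category.assoc] at h₁ ⊢
      simp only [Functor.lan, Functor.lanUnit] at h₂ ⊢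
      rw [reassoc_of% h₁, NatTrans.naturality_assoc, ← reassoc_of% h₂, h₁,
        ι_colimMap, Functor.whiskerLeft_app]
      rfl)

end

variable {X Y : Scheme.{u}}

theorem preservesFiniteLimits_lan_bcP (f : X ⟶ Y) :
    PreservesFiniteLimits ((ProEtS.bcP f).op.lan :
      (Y.ProEtᵒᵖ ⥤ AddCommGrpCat.{u + 1}) ⥤ X.ProEtᵒᵖ ⥤ AddCommGrpCat.{u + 1}) := by
  haveI : RepresentablyFlat (ProEtS.bcP f) := flat_of_preservesFiniteLimits _
  haveI : ∀ W : X.ProEtᵒᵖ,
      HasExactColimitsOfShape (CostructuredArrow (ProEtS.bcP f).op W) AddCommGrpCat.{u + 1} := fun W ↦ by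
    haveI : IsFiltered (CostructuredArrow (ProEtS.bcP f).op W) :=
      IsFiltered.of_equivalence (structuredArrowOpEquivalence (ProEtS.bcP f) W.unop)
    haveI : IsFiltered (AsSmall.{u + 1} (CostructuredArrow (ProEtS.bcP f).op W)) :=
      IsFiltered.of_equivalence AsSmall.equiv
    haveI : HasExactColimitsOfShape (AsSmall.{u + 1} (CostructuredArrow (ProEtS.bcP f).op W))
        AddCommGrpCat.{u + 1} := AB5OfSize.ofShape _
    exact HasExactColimitsOfShape.of_domain_equivalence _ AsSmall.equiv.symm
  apply preservesFiniteLimits_of_preservesFiniteLimitsOfSize.{0}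
  intro J _ _
  refine preservesLimitsOfShape_of_evaluation _ J fun W ↦ ?_
  haveI : PreservesFiniteLimits
      (colim (J := CostructuredArrow (ProEtS.bcP f).op W) (C := AddCommGrpCat.{u + 1})) :=
    HasExactColimitsOfShape.preservesFiniteLimits
  exact preservesLimitsOfShape_of_natIso (lanEvalIso _ _).symm

theorem pullP_preservesFiniteLimits (f : X ⟶ Y) [ProEtS.PCont f] :
    PreservesFiniteLimits (ProEtS.pullP f) := by
  haveI := preservesFiniteLimits_lan_bcP f
  haveI : RepresentablyFlat (ProEtS.bcP f) := flat_of_preservesFiniteLimits _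
  infer_instance

end Groth.Agent.ProEtWC
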