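import Groth.Agent.Lib.ProEtWC.Basic
import Mathlib.CategoryTheory.Adjunction.Triple

/-!
Open immersions: extension by zero and direct image are fully faithful.
-/

open CategoryTheory Limits AlgebraicGeometry Opposite

universe u

namespace Groth.Agent.ProEtWC

set_option backward.isDefEq.respectTransparency.types false
set_option linter.style.haveILetI false

variable {U X : Scheme.{u}} (j : U ⟶ X) [IsOpenImmersion j] [ProEtS.JPCont j] [ProEtS.PCont j]

/-- Composition is left adjoint to base change. -/
noncomputable def compBcAdj : ProEtS.compP j ⊣ ProEtS.bcP j :=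
  MorphismProperty.Over.mapPullbackAdj (@WeaklyEtale) ⊤ j inferInstance trivial

/-- Restriction is left adjoint to direct image. -/
noncomputable def restrPushAdj : ProEtS.restrP j ⊣ ProEtS.pushP j :=
  (compBcAdj j).sheafPushforwardContinuous
    (E := AddCommGrpCat.{u + 1}) (Scheme.ProEt.topology U) (Scheme.ProEt.topology X)

omit [ProEtS.JPCont j] [ProEtS.PCont j] in
lemma full_compP : (ProEtS.compP j).Full := by
  refine ⟨fun {V W} g ↦ ?_⟩
  have h : g.left ≫ W.hom = V.hom := by
    rw [← cancel_mono j, Category.assoc]
    exact MorphismProperty.Over.w g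
  exact ⟨MorphismProperty.Over.homMk g.left h, MorphismProperty.Over.Hom.ext rfl⟩

omit [ProEtS.JPCont j] [ProEtS.PCont j] in
lemma faithful_compP : (ProEtS.compP j).Faithful := by
  refine ⟨fun {V W} a b h ↦ MorphismProperty.Over.Hom.ext ?_⟩
  exact congrArg (fun e : (ProEtS.compP j).obj V ⟶ (ProEtS.compP j).obj W ↦ e.left) h

lemma isIso_restrPushAdj_counit : IsIso (restrPushAdj j).counit := by
  haveI := full_compP j
  haveI := faithful_compP j
  haveI : ∀ G, IsIso ((restrPushAdj j).counit.app G) := fun G ↦ by
    haveI : ∀ V, IsIso (((sheafToPresheaf _ _).map ((restrPushAdj j).counit.app G)).app V) := fun V ↦ by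
      haveI : IsIso ((compBcAdj j).unit.app V.unop) := inferInstance
      show IsIso (G.obj.map ((compBcAdj j).unit.app V.unop).op)
      infer_instance
    haveI : IsIso ((sheafToPresheaf _ _).map ((restrPushAdj j).counit.app G)) :=
      NatIso.isIso_of_isIso_app _
    exact isIso_of_reflects_iso _ (sheafToPresheaf _ _)
  exact NatIso.isIso_of_isIso_app _

theorem unit_counit_isIso (F G : ProEtS.AbP U) :
    IsIso ((ProEtS.extZeroPAdj j).unit.app F) ∧ IsIso ((ProEtS.pullPushAdjP j).counit.app G) := by
  haveI := isIso_restrPushAdj_counit j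
  let t : Adjunction.Triple (ProEtS.extZeroP j) (ProEtS.restrP j) (ProEtS.pushP j) :=
    ⟨ProEtS.extZeroPAdj j, restrPushAdj j⟩
  haveI : IsIso (ProEtS.extZeroPAdj j).unit := t.isIso_unit_iff_isIso_counit.2 inferInstance
  have hff := (restrPushAdj j).fullyFaithfulROfIsIsoCounit
  haveI := hff.full
  haveI := hff.faithful
  exact ⟨inferInstance, inferInstance⟩

end Groth.Agent.ProEtWC
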