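import Groth.Agent.Lib.ProEtWC.ClosedCounit
import Groth.Agent.Lib.ProEtWC.OpenImm
import Groth.Agent.Lib.ProEtWC.LanExact
import Mathlib.CategoryTheory.Limits.ConcreteCategory.Basic
import Mathlib.Algebra.Homology.ShortComplex.ExactFunctor

/-!
The recollement of pro-étale sheaves along an open-closed decomposition.
-/

open CategoryTheory Limits AlgebraicGeometry Opposite Set Topology

universe u

namespace Groth.Agent.ProEtWC

set_option backward.isDefEq.respectTransparency.types false
set_option linter.style.haveILetI false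

variable {Z X U : Scheme.{u}}

lemma restrP_pushP_isZero (i : Z ⟶ X) [ProEtS.PCont i] (j : U ⟶ X) [WeaklyEtale j]
    [ProEtS.JPCont j] (hd : Disjoint (range j.base) (range i.base)) (H : ProEtS.AbP Z) :
    IsZero ((ProEtS.restrP j).obj ((ProEtS.pushP i).obj H)) := by
  rw [IsZero.iff_id_eq_zero]
  ext V x
  let T := (ProEtS.bcP i).obj ((ProEtS.compP j).obj V.unop)
  haveI : IsEmpty ↥T.left := ⟨fun t ↦ by
    let p₁ : T.left ⟶ V.unop.left := pullback.fst _ _
    let p₂ : T.left ⟶ Z := pullback.snd _ _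
    have h : p₁ ≫ V.unop.hom ≫ j = p₂ ≫ i := pullback.condition
    refine disjoint_left.1 hd ⟨(p₁ ≫ V.unop.hom) t, rfl⟩ ⟨p₂ t, ?_⟩
    exact congrArg (fun g : T.left ⟶ X ↦ g t) h.symm⟩
  haveI : Subsingleton (H.obj.obj (op T)) := subsingleton_of_isEmpty
    ((sheafCompose (Scheme.ProEt.topology Z) (CategoryTheory.forget AddCommGrpCat.{u + 1})).obj H) T
  exact Subsingleton.elim (α := H.obj.obj (op T)) _ _

lemma pullP_extZeroP_isZero (i : Z ⟶ X) [ProEtS.PCont i] (j : U ⟶ X) [WeaklyEtale j]
    [ProEtS.JPCont j] (hd : Disjoint (range j.base) (range i.base)) (G : ProEtS.AbP U) :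
    IsZero ((ProEtS.pullP i).obj ((ProEtS.extZeroP j).obj G)) := by
  rw [IsZero.iff_id_eq_zero]
  apply ((ProEtS.pullPushAdjP i).homEquiv _ _).injective
  apply ((ProEtS.extZeroPAdj j).homEquiv _ _).injective
  exact (restrP_pushP_isZero i j hd _).eq_of_tgt _ _

variable (i : Z ⟶ X) [IsClosedImmersion i] [ProEtS.PCont i]
  (j : U ⟶ X) [IsOpenImmersion j] [QuasiCompact j] [ProEtS.JPCont j]

theorem isZero_of_restr_pull (hc : range j.base = (range i.base)ᶜ) (A : ProEtS.AbP X)
    (hU : IsZero ((ProEtS.restrP j).obj A)) (hZ : IsZero ((ProEtS.pullP i).obj A)) : IsZero A := by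
  let J := Scheme.ProEt.topology Z
  let L := (ProEtS.bcP i).op
  let Q := L.lan.obj A.obj
  let η : A.obj ⟶ L ⋙ Q := L.lanUnit.app A.obj
  let S := (presheafToSheaf J AddCommGrpCat.{u + 1}).obj Q
  have hS : IsZero S :=
    hZ.of_iso ((Functor.sheafPullbackConstruction.sheafPullbackIso (ProEtS.bcP i) AddCommGrpCat.{u + 1}
      (Scheme.ProEt.topology X) J).app A).symm
  have hS' : ∀ (T : Z.ProEt) (s : S.obj.obj (op T)), s = 0 := fun T s ↦ by
    have h := congrArg (fun φ : S ⟶ S ↦ (φ.hom.app (op T)).hom s) ((IsZero.iff_id_eq_zero _).1 hS)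
    exact h
  haveI : RepresentablyFlat (ProEtS.bcP i) := flat_of_preservesFiniteLimits _
  haveI hfil : ∀ W : Z.ProEt, IsFiltered (CostructuredArrow L (op W)) := fun W ↦
    IsFiltered.of_equivalence (structuredArrowOpEquivalence (ProEtS.bcP i) W)
  haveI : PreservesFilteredColimitsOfSize.{u + 1, u + 1} (CategoryTheory.forget AddCommGrpCat.{u + 1}) :=
    inferInstance
  haveI : PreservesFilteredColimitsOfSize.{u, u + 1} (CategoryTheory.forget AddCommGrpCat.{u + 1}) :=
    preservesFilteredColimitsOfSize_of_univLE.{u + 1, u + 1} _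
  haveI : ∀ W : Z.ProEt, PreservesColimitsOfShape (CostructuredArrow L (op W))
      (CategoryTheory.forget AddCommGrpCat.{u + 1}) := fun W ↦
    PreservesFilteredColimitsOfSize.preserves_filtered_colimits _
  rw [IsZero.iff_id_eq_zero]
  ext V x
  obtain ⟨ι, W, g, hg, hW⟩ := exists_affine_wc_cover V.unop
  have hP : Presieve.IsSheaf (Scheme.ProEt.topology X) (A.obj ⋙ CategoryTheory.forget AddCommGrpCat.{u + 1}) :=
    (isSheaf_iff_isSheaf_of_type _ _).1 ((sheafCompose _ (CategoryTheory.forget _)).obj A).property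
  refine ((Presieve.isSheafFor_iff_generate _).2 (hP _ hg)).isSeparatedFor.ext ?_
  rintro Y f ⟨k⟩
  show A.obj.map (g k).op x = A.obj.map (g k).op (0 : A.obj.obj V)
  rw [map_zero]
  generalize A.obj.map (g k).op x = s
  haveI := (hW k).1
  let T := (ProEtS.bcP i).obj (W k)
  let pT : T.left ⟶ (W k).left := pullback.fst _ _
  haveI : IsAffineHom pT := MorphismProperty.pullback_fst (P := @IsAffineHom) _ _ inferInstance
  haveI : IsAffine T.left := isAffine_of_isAffineHom pT
  have hR : Presheaf.equalizerSieve (F := Q) (η.app (op (W k)) s) 0 ∈ J T :=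
    Presheaf.equalizerSieve_mem J (toSheafify J Q) _ _ ((hS' _ _).trans (hS' _ _).symm)
  obtain ⟨κ, _, B, b, hb, hB, hcov, hRb⟩ := exists_affine_refinement hR
  haveI := hb
  haveI := hB
  have hloc : ∀ l, ∃ (V' : X.ProEt) (h : V' ⟶ W k) (a : overObj T (b l) ⟶ (ProEtS.bcP i).obj V'),
      a ≫ (ProEtS.bcP i).map h = overHom T (b l) ∧ A.obj.map h.op s = 0 := fun l ↦ by
    let K : CostructuredArrow L (op (overObj T (b l))) :=
      CostructuredArrow.mk (show L.obj (op (W k)) ⟶ _ from (overHom T (b l)).op)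
    have h0 : ((Functor.LeftExtension.mk Q η).coconeAt (op (overObj T (b l)))).ι.app K s =
        ((Functor.LeftExtension.mk Q η).coconeAt (op (overObj T (b l)))).ι.app K (0 : A.obj.obj _) := by
      show Q.map (overHom T (b l)).op (η.app (op (W k)) s) =
        Q.map (overHom T (b l)).op (η.app (op (W k)) 0)
      rw [map_zero]
      exact hRb l
    obtain ⟨M, e₁, e₂, he⟩ := Concrete.isColimit_exists_of_rep_eq _
      (Functor.isPointwiseLeftKanExtensionLeftKanExtensionUnit L A.obj (op (overObj T (b l)))) _ _ h0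
    refine ⟨M.left.unop, e₁.left.unop, M.hom.unop,
      congrArg Quiver.Hom.unop (CostructuredArrow.w e₁), ?_⟩
    refine Eq.trans ?_ (map_zero (A.obj.map e₂.left).hom)
    exact he
  choose V' h a ha hs using hloc
  let c : ∀ l, B l ⟶ (V' l).left := fun l ↦ (a l).left ≫ pullback.fst _ _
  have hch : ∀ l, c l ≫ (h l).left = b l ≫ pT := fun l ↦ by
    have e : (a l).left ≫ ((ProEtS.bcP i).map (h l)).left = b l := congrArg (fun q ↦ q.left) (ha l)
    show ((a l).left ≫ pullback.fst _ _) ≫ (h l).left = b l ≫ pT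
    refine Eq.trans ?_ (congrArg (· ≫ pT) e)
    erw [Category.assoc, Category.assoc]
    congr 1
    exact (pullback.lift_fst _ _ _).symm
  have hO : ∀ l, ∃ O : (V' l).left.Opens, IsCompact (O : Set (V' l).left) ∧ range (c l) ⊆ O := fun l ↦ by
    obtain ⟨F, hF⟩ := (isCompact_range (c l).continuous).elim_finite_subcover
      (fun O : (V' l).left.affineOpens ↦ ((O.1 : (V' l).left.Opens) : Set (V' l).left))
      (fun O ↦ O.1.isOpen) fun x _ ↦ by
        obtain ⟨O, hO⟩ := TopologicalSpace.Opens.mem_iSup.1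
          ((iSup_affineOpens_eq_top (V' l).left).ge (TopologicalSpace.Opens.mem_top x))
        exact mem_iUnion.2 ⟨O, hO⟩
    refine ⟨⟨_, isOpen_biUnion fun O (_ : O ∈ F) ↦ O.1.isOpen⟩, ?_, hF⟩
    exact F.finite_toSet.isCompact_biUnion fun O _ ↦ O.2.isCompact
  choose O hOc hcO using hO
  haveI : ∀ l, WeaklyEtale ((O l).ι ≫ (h l).left) := fun l ↦ by
    haveI := weaklyEtale_left (h l)
    infer_instance
  let Vk : Option κ → X.ProEt := fun o ↦ Option.elim o
    ((ProEtS.compP j).obj (Scheme.ProEt.mk (pullback.snd (W k).hom j)))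
    fun l ↦ overObj (W k) ((O l).ι ≫ (h l).left)
  haveI : WeaklyEtale (pullback.fst (W k).hom j) := inferInstance
  let gk : ∀ o, Vk o ⟶ W k := fun o ↦ match o with
    | none => MorphismProperty.Over.homMk (pullback.fst (W k).hom j) pullback.condition
    | some l => overHom (W k) ((O l).ι ≫ (h l).left)
  have hjs : ∀ y : (W k).left, ∃ o, ∃ z : (Vk o).left, (gk o).left z = y := fun y ↦ by
    by_cases hy : (W k).hom y ∈ range i.base
    · obtain ⟨z, hz⟩ := hy
      obtain ⟨t, ht, -⟩ := Scheme.Pullback.exists_preimage_pullback y z hz.symm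
      obtain ⟨l, w, rfl⟩ := hcov t
      refine ⟨some l, ⟨c l w, hcO l ⟨w, rfl⟩⟩, ?_⟩
      show (h l).left (c l w) = y
      rw [← ht]
      exact congrArg (fun q : B l ⟶ (W k).left ↦ q w) (hch l)
    · have hy' : (W k).hom y ∈ range j.base := by
        rw [hc]
        exact hy
      obtain ⟨u, hu⟩ := hy'
      obtain ⟨t, ht, -⟩ := Scheme.Pullback.exists_preimage_pullback y u hu.symm
      exact ⟨none, t, ht⟩
  have hmem : Sieve.generate (Presieve.ofArrows Vk gk) ∈ Scheme.ProEt.topology X (W k) := by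
    refine cover_mem _ _ ?_ hjs
    let 𝒰 := Scheme.Cover.mkOfCovers (P := @WeaklyEtale) (Option κ)
      (fun o ↦ (Vk o).left) (fun o ↦ (gk o).left) hjs fun o ↦ weaklyEtale_left (gk o)
    haveI : ∀ o, QuasiCompact (𝒰.f o) := fun o ↦ by
      rcases o with _ | l
      · exact inferInstanceAs (QuasiCompact (pullback.fst (W k).hom j))
      · haveI : CompactSpace ↥((O l).toScheme) := isCompact_iff_compactSpace.1 (hOc l)
        exact inferInstanceAs (QuasiCompact ((O l).ι ≫ (h l).left))
    haveI : Finite 𝒰.I₀ := inferInstanceAs (Finite (Option κ))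
    exact QuasiCompactCover.of_finite (𝒰 := 𝒰)
  refine ((Presieve.isSheafFor_iff_generate _).2 (hP _ hmem)).isSeparatedFor.ext ?_
  rintro Y f ⟨o⟩
  show A.obj.map (gk o).op s = A.obj.map (gk o).op 0
  rw [map_zero]
  rcases o with _ | l
  · exact congrArg (fun φ : (ProEtS.restrP j).obj A ⟶ (ProEtS.restrP j).obj A ↦
      (φ.hom.app (op (Scheme.ProEt.mk (pullback.snd (W k).hom j)))).hom (A.obj.map (gk none).op s))
      ((IsZero.iff_id_eq_zero _).1 hU)
  · have e : gk (some l) =
        (MorphismProperty.Over.homMk (O l).ι (by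
          show (O l).ι ≫ (V' l).hom = ((O l).ι ≫ (h l).left) ≫ (W k).hom
          rw [Category.assoc, MorphismProperty.Over.w (h l)]) : overObj (W k) ((O l).ι ≫ (h l).left) ⟶ V' l) ≫ h l :=
      MorphismProperty.Over.Hom.ext rfl
    have key : ∀ q : Vk (some l) ⟶ V' l, A.obj.map (q ≫ h l).op s = 0 := fun q ↦ by
      rw [op_comp, Functor.map_comp_apply, hs l, map_zero]
    rw [e]
    exact key _

theorem shortExact_recollement (hc : range j.base = (range i.base)ᶜ) (F : ProEtS.AbP X) :
    ∃ h : (ProEtS.extZeroPAdj j).counit.app F ≫ (ProEtS.pullPushAdjP i).unit.app F = 0,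
      (ShortComplex.mk _ _ h).ShortExact := by
  haveI := pCont j
  have hd : Disjoint (range j.base) (range i.base) := by
    rw [hc]
    exact disjoint_compl_left
  let a := (ProEtS.extZeroPAdj j).counit.app F
  let b := (ProEtS.pullPushAdjP i).unit.app F
  have h : a ≫ b = 0 := by
    apply ((ProEtS.extZeroPAdj j).homEquiv _ _).injective
    exact (restrP_pushP_isZero i j hd _).eq_of_tgt _ _
  refine ⟨h, ?_⟩
  haveI : (ProEtS.pullP i).IsLeftAdjoint := (ProEtS.pullPushAdjP i).isLeftAdjoint
  haveI : (ProEtS.restrP j).IsLeftAdjoint := (restrPushAdj j).isLeftAdjoint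
  haveI : (ProEtS.restrP j).IsRightAdjoint := (ProEtS.extZeroPAdj j).isRightAdjoint
  haveI : PreservesFiniteLimits (ProEtS.pullP i) := pullP_preservesFiniteLimits i
  haveI : (ProEtS.pullP i).Additive := Functor.additive_of_preserves_binary_products _
  haveI : (ProEtS.restrP j).Additive := Functor.additive_of_preserves_binary_products _
  haveI : PreservesFiniteColimits (ProEtS.pullP i) := inferInstance
  haveI : PreservesFiniteLimits (ProEtS.restrP j) := inferInstance
  haveI : PreservesFiniteColimits (ProEtS.restrP j) := inferInstance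
  haveI ha : IsIso ((ProEtS.restrP j).map a) := by
    haveI := (unit_counit_isIso j ((ProEtS.restrP j).obj F) ((ProEtS.restrP j).obj F)).1
    have h1 : (ProEtS.extZeroPAdj j).unit.app ((ProEtS.restrP j).obj F) ≫ (ProEtS.restrP j).map a = 𝟙 _ :=
      (ProEtS.extZeroPAdj j).right_triangle_components F
    have h2 : (ProEtS.restrP j).map a = inv ((ProEtS.extZeroPAdj j).unit.app ((ProEtS.restrP j).obj F)) :=
      (IsIso.inv_eq_of_hom_inv_id h1).symm
    rw [h2]
    infer_instance
  haveI hb : IsIso ((ProEtS.pullP i).map b) := by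
    haveI := isIso_counit_pullPush i ((ProEtS.pullP i).obj F)
    have h1 : (ProEtS.pullP i).map b ≫ (ProEtS.pullPushAdjP i).counit.app ((ProEtS.pullP i).obj F) = 𝟙 _ :=
      (ProEtS.pullPushAdjP i).left_triangle_components F
    haveI : IsIso ((ProEtS.pullP i).map b ≫
        (ProEtS.pullPushAdjP i).counit.app ((ProEtS.pullP i).obj F)) := by
      rw [h1]
      exact inferInstanceAs (IsIso (𝟙 ((ProEtS.pullP i).obj F)))
    exact IsIso.of_isIso_comp_right _ ((ProEtS.pullPushAdjP i).counit.app ((ProEtS.pullP i).obj F))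
  let G₁ := ProEtS.restrP j
  let G₂ := ProEtS.pullP i
  have z₁ : IsZero (G₁.obj ((ProEtS.pushP i).obj ((ProEtS.pullP i).obj F))) := restrP_pushP_isZero i j hd _
  have z₂ : IsZero (G₂.obj ((ProEtS.extZeroP j).obj ((ProEtS.restrP j).obj F))) := pullP_extZeroP_isZero i j hd _
  let S := ShortComplex.mk a b h
  haveI : Mono a := by
    apply Preadditive.mono_of_isZero_kernel
    apply isZero_of_restr_pull i j hc
    · exact (isZero_kernel_of_mono (G₁.map a)).of_iso (PreservesKernel.iso G₁ a)
    · exact IsZero.of_mono (G₂.map (kernel.ι a)) z₂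
  haveI : Epi b := by
    apply Preadditive.epi_of_isZero_cokernel
    apply isZero_of_restr_pull i j hc
    · exact IsZero.of_epi (G₁.map (cokernel.π b)) z₁
    · exact (isZero_cokernel_of_epi (G₂.map b)).of_iso (PreservesCokernel.iso G₂ b)
  refine { exact := ?_, mono_f := ‹_›, epi_g := ‹_› }
  rw [ShortComplex.exact_iff_isZero_homology]
  apply isZero_of_restr_pull i j hc
  · haveI : Epi (S.map G₁).f := inferInstanceAs (Epi (G₁.map a))
    have e : (S.map G₁).Exact := (ShortComplex.exact_iff_epi _ (z₁.eq_of_tgt _ _)).2 inferInstance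
    exact ((ShortComplex.exact_iff_isZero_homology _).1 e).of_iso (S.mapHomologyIso G₁).symm
  · haveI : Mono (S.map G₂).g := inferInstanceAs (Mono (G₂.map b))
    have e : (S.map G₂).Exact := (ShortComplex.exact_iff_mono _ (z₂.eq_of_src _ _)).2 inferInstance
    exact ((ShortComplex.exact_iff_isZero_homology _).1 e).of_iso (S.mapHomologyIso G₂).symm

end Groth.Agent.ProEtWC
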