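import Groth.Prelude.Def_ProEtS
import Groth.Prelude.Def_PBC
import Groth.Agent.Lib.WEtSch4
import Mathlib.AlgebraicGeometry.Morphisms.Affine
import Mathlib.RingTheory.Flat.FaithfullyFlat.Algebra

/-!
Covering sieves of the small pro-étale site.
-/

open CategoryTheory Limits AlgebraicGeometry Opposite

universe u

namespace Groth.Agent.ProEtWC

set_option backward.isDefEq.respectTransparency.types false
set_option linter.style.haveILetI false
set_option linter.unusedSectionVars false

/-- Every surjective weakly étale map from an affine scheme has a section. -/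
def HasSections (U : Scheme.{u}) : Prop :=
  ∀ (W : Scheme.{u}) (w : W ⟶ U), IsAffine W → WeaklyEtale w → Surjective w →
    ∃ σ : U ⟶ W, σ ≫ w = 𝟙 U

lemma hasSections_of_iso {U U' : Scheme.{u}} (e : U ≅ U') (h : HasSections U) : HasSections U' := by
  intro W w _ _ _
  obtain ⟨σ, hσ⟩ := h W (w ≫ e.inv) inferInstance inferInstance inferInstance
  refine ⟨e.inv ≫ σ, ?_⟩
  rw [Category.assoc, ← cancel_mono e.inv, Category.assoc, Category.assoc, hσ, Category.id_comp,
    Category.comp_id]

lemma hasSections_spec_iff (A : CommRingCat.{u}) :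
    HasSections (Spec A) ↔ EtPBC.IsWContractible A := by
  constructor
  · intro h B _ _ hff hwe
    haveI := hff
    let w := Spec.map (CommRingCat.ofHom (algebraMap A B))
    haveI : WeaklyEtale w := WEtSch4.weaklyEtale_SpecMap_iff.2 hwe
    haveI : Surjective w := ⟨PrimeSpectrum.comap_surjective_of_faithfullyFlat⟩
    obtain ⟨σ, hσ⟩ := h _ w inferInstance inferInstance inferInstance
    obtain ⟨r, rfl⟩ := Spec.map_surjective σ
    rw [← Spec.map_comp, ← Spec.map_id] at hσ
    exact ⟨{ r.hom with commutes' := fun a ↦ congr($(Spec.map_injective hσ) a) }⟩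
  · intro h W w _ _ _
    obtain ⟨f, hf⟩ := Spec.map_surjective (W.isoSpec.inv ≫ w)
    letI : Algebra A Γ(W, ⊤) := f.hom.toAlgebra
    have hwe : Algebra.WeaklyEtale A Γ(W, ⊤) := by
      refine WEtSch4.weaklyEtale_SpecMap_iff.1 ?_
      show WeaklyEtale (Spec.map f)
      rw [hf]
      infer_instance
    haveI : Module.Flat A Γ(W, ⊤) := Algebra.WeaklyEtale.flat
    have hs : Surjective (Spec.map f) := by
      rw [hf]
      infer_instance
    haveI : Module.FaithfullyFlat A Γ(W, ⊤) :=
      Module.FaithfullyFlat.of_comap_surjective hs.surj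
    obtain ⟨r⟩ := h Γ(W, ⊤) inferInstance hwe
    refine ⟨Spec.map (CommRingCat.ofHom r.toRingHom) ≫ W.isoSpec.inv, ?_⟩
    rw [Category.assoc, ← hf, ← Spec.map_comp, ← Spec.map_id]
    congr 1
    exact CommRingCat.hom_ext (RingHom.ext fun a ↦ r.commutes a)

lemma isWContractible_iff_hasSections (U : Scheme.{u}) [IsAffine U] :
    EtPBC.IsWContractible Γ(U, ⊤) ↔ HasSections U :=
  (hasSections_spec_iff _).symm.trans
    ⟨hasSections_of_iso U.isoSpec.symm, hasSections_of_iso U.isoSpec⟩

variable {X : Scheme.{u}}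

lemma weaklyEtale_left {U V : X.ProEt} (g : V ⟶ U) : WeaklyEtale g.left := by
  haveI := U.prop
  have : g.left ≫ U.hom = V.hom := MorphismProperty.Over.w g
  haveI : WeaklyEtale (g.left ≫ U.hom) := by rw [this]; exact V.prop
  exact WeaklyEtale.of_comp g.left U.hom

/-- The object over `U` given by a weakly étale map. -/
noncomputable abbrev overObj (U : X.ProEt) {W : Scheme.{u}} (w : W ⟶ U.left) [WeaklyEtale w] : X.ProEt :=
  Scheme.ProEt.mk (w ≫ U.hom)

/-- The structure map of `overObj U w`. -/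
noncomputable abbrev overHom (U : X.ProEt) {W : Scheme.{u}} (w : W ⟶ U.left) [WeaklyEtale w] :
    overObj U w ⟶ U :=
  MorphismProperty.Over.homMk w

lemma arrows_of_comm {U V : X.ProEt} {R : Sieve U} (g : V ⟶ U) (hg : R.arrows g) {W : Scheme.{u}}
    {w : W ⟶ U.left} [WeaklyEtale w] (a : W ⟶ V.left) (ha : a ≫ g.left = w) :
    R.arrows (overHom U w) := by
  have h : overHom U w = MorphismProperty.Over.homMk (A := overObj U w) (B := V) a
      (by
        show a ≫ V.hom = w ≫ U.hom
        rw [← MorphismProperty.Over.w g, ← Category.assoc, ha]) ≫ g := by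
    apply MorphismProperty.Over.Hom.ext
    exact ha.symm
  rw [h]
  exact R.downward_closed hg _

/-- A family of morphisms which is a quasi-compact jointly surjective family is covering. -/
lemma cover_mem {U : X.ProEt} {ι : Type u} (V : ι → X.ProEt) (g : ∀ i, V i ⟶ U)
    (hqc : QuasiCompactCover (PreZeroHypercover.mk ι (fun i ↦ (V i).left) fun i ↦ (g i).left))
    (hs : ∀ x : U.left, ∃ i, ∃ y : (V i).left, (g i).left y = x) :
    Sieve.generate (Presieve.ofArrows V g) ∈ Scheme.ProEt.topology X U := by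
  refine Precoverage.generate_mem_toGrothendieck ?_
  show (Presieve.ofArrows V g).map (Scheme.ProEt.forget X ⋙ Over.forget X) ∈
    Scheme.proetalePrecoverage U.left
  rw [Presieve.map_ofArrows]
  refine ⟨Scheme.presieve₀_mem_qcPrecoverage_iff.2 hqc, ?_⟩
  exact (Scheme.ofArrows_mem_precoverage_iff _).2 ⟨hs, fun i ↦ weaklyEtale_left (g i)⟩

lemma opens_cover_mem (U : X.ProEt) {ι : Type u} (O : ι → U.left.Opens) (hO : iSup O = ⊤) :
    Sieve.generate (Presieve.ofArrows (fun i ↦ overObj U (O i).ι) fun i ↦ overHom U (O i).ι) ∈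
      Scheme.ProEt.topology X U := by
  let 𝒰 := U.left.openCoverOfIsOpenCover O (TopologicalSpace.IsOpenCover.mk hO)
  refine cover_mem _ _ ?_ fun x ↦ ⟨_, 𝒰.covers x⟩
  exact (inferInstance : QuasiCompactCover 𝒰.toPreZeroHypercover)

lemma singleton_affine_mem {U V : X.ProEt} (g : V ⟶ U) [QuasiCompact g.left] [Surjective g.left] :
    Sieve.generate (Presieve.singleton g) ∈ Scheme.ProEt.topology X U := by
  rw [← Presieve.ofArrows_pUnit]
  exact cover_mem (ι := PUnit) (fun _ ↦ V) (fun _ ↦ g)
    (inferInstanceAs (QuasiCompactCover (PreZeroHypercover.singleton g.left)))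
    fun x ↦ ⟨⟨⟩, g.left.surjective x⟩

/-- A sieve on a quasi-compact object is covering iff it is refined by finitely many affines. -/
lemma exists_affine_refinement {U : X.ProEt} [CompactSpace U.left] {R : Sieve U}
    (hR : R ∈ Scheme.ProEt.topology X U) :
    ∃ (ι : Type u) (_ : Finite ι) (B : ι → Scheme.{u}) (b : ∀ i, B i ⟶ U.left)
      (_ : ∀ i, WeaklyEtale (b i)),
      (∀ i, IsAffine (B i)) ∧ (∀ x, ∃ i, ∃ y : B i, b i y = x) ∧ ∀ i, R.arrows (overHom U (b i)) := by
  haveI : PreservesLimitsOfShape WalkingCospan (Scheme.ProEt.forget X ⋙ Over.forget X) :=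
    comp_preservesLimitsOfShape _ _
  haveI : (Scheme.ProEt.precoverage X).IsStableUnderComposition :=
    inferInstanceAs (Scheme.proetalePrecoverage.comap _).IsStableUnderComposition
  haveI : (Scheme.ProEt.precoverage X).IsStableUnderBaseChange :=
    inferInstanceAs (Scheme.proetalePrecoverage.comap _).IsStableUnderBaseChange
  haveI : (Scheme.ProEt.precoverage X).HasIsos :=
    inferInstanceAs (Scheme.proetalePrecoverage.comap _).HasIsos
  obtain ⟨T, hT, hle⟩ := Precoverage.mem_toGrothendieck_iff_of_isStableUnderComposition.1 hR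
  obtain ⟨ι, V, g, rfl⟩ := T.exists_eq_ofArrows
  have hT' : (Presieve.ofArrows V g).map (Scheme.ProEt.forget X ⋙ Over.forget X) ∈
    Scheme.proetalePrecoverage U.left := hT
  rw [Presieve.map_ofArrows] at hT'
  haveI hqc : QuasiCompactCover (PreZeroHypercover.mk ι (fun i ↦ (V i).left) fun i ↦ (g i).left) :=
    Scheme.presieve₀_mem_qcPrecoverage_iff.1 hT'.1
  obtain ⟨n, a, O, hO, heq⟩ := QuasiCompactCover.exists_isAffineOpen_of_isCompact
    (PreZeroHypercover.mk ι (fun i ↦ (V i).left) fun i ↦ (g i).left)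
    (U := (⊤ : U.left.Opens)) isCompact_univ
  haveI : ∀ i : ULift.{u} (Fin n), WeaklyEtale ((O i.down).ι ≫ (g (a i.down)).left) := fun i ↦ by
    haveI := weaklyEtale_left (g (a i.down))
    infer_instance
  refine ⟨ULift.{u} (Fin n), inferInstance, fun i ↦ (O i.down).toScheme,
    fun i ↦ (O i.down).ι ≫ (g (a i.down)).left, inferInstance, fun i ↦ hO i.down, fun x ↦ ?_,
    fun i ↦ arrows_of_comm (g (a i.down)) (hle _ _ ⟨a i.down⟩) (O i.down).ι rfl⟩
  obtain ⟨s, ⟨k, rfl⟩, y, hy, rfl⟩ := heq.ge (Set.mem_univ x)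
  exact ⟨⟨k⟩, ⟨y, hy⟩, rfl⟩

end Groth.Agent.ProEtWC
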