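import Groth.Agent.Lib.ProEtWC.PushExact
import Groth.Agent.Lib.WLocal.IndEtaleCover
import Groth.Agent.Lib.WLocal.Lift
import Mathlib.AlgebraicGeometry.Pullbacks

/-!
Weakly contractible objects over a closed subscheme are retracts of base changes.
-/

open CategoryTheory Limits AlgebraicGeometry Opposite TensorProduct

universe u

namespace Groth.Agent.ProEtWC

set_option backward.isDefEq.respectTransparency.types false
set_option linter.style.haveILetI false

lemma exists_lift_ring (A B R : Type u) [CommRing A] [CommRing B] [CommRing R] [Algebra A B]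
    [Algebra B R] [Algebra.WeaklyEtale B R] (hsurj : Function.Surjective (algebraMap A B))
    (hR : EtPBC.IsWContractible R) :
    ∃ (C : Type u) (_ : CommRing C) (_ : Algebra A C), Algebra.WeaklyEtale A C ∧
      ∃ (f : R →+* C ⊗[A] B) (g : C ⊗[A] B →+* R), g.comp f = RingHom.id R ∧
        f.comp (algebraMap B R) =
          (Algebra.TensorProduct.includeRight (R := A) (A := C) (B := B)).toRingHom := by
  obtain ⟨T, _, _, _, _, hffT, hRT, hBT⟩ :=
    WLocal.exists_indEtale_cover_of_weaklyEtale (A := B) (B := R)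
  obtain ⟨ρ⟩ := hR T hffT (WEtaleH7.weaklyEtale_of_isIndEtale hRT)
  let I := RingHom.ker (algebraMap A B)
  let q : A ⧸ I →+* B := Ideal.Quotient.lift I (algebraMap A B) fun _ ha ↦ ha
  letI : Algebra (A ⧸ I) B := q.toAlgebra
  letI : Algebra (A ⧸ I) T := ((algebraMap B T).comp q).toAlgebra
  haveI : IsScalarTower (A ⧸ I) B T := IsScalarTower.of_algebraMap_eq fun _ ↦ rfl
  have hq : Function.Bijective q := by
    refine ⟨?_, fun b ↦ ?_⟩
    · exact RingHom.lift_injective_of_ker_le_ideal I _ le_rfl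
    · obtain ⟨a, rfl⟩ := hsurj b
      exact ⟨Ideal.Quotient.mk I a, rfl⟩
  haveI : Algebra.Etale (A ⧸ I) B :=
    Algebra.Etale.of_equiv (AlgEquiv.ofBijective (Algebra.ofId (A ⧸ I) B) hq)
  have hAT : EtPBC.IsIndEtale (A ⧸ I) T := WLocal.isIndEtale_trans WLocal.isIndEtale_of_etale hBT
  obtain ⟨C, _, _, hC, ⟨e⟩⟩ := WLocal.exists_indEtale_lift A I T hAT
  refine ⟨C, inferInstance, inferInstance, WEtaleH7.weaklyEtale_of_isIndEtale hC, ?_⟩
  let ir := (Algebra.TensorProduct.includeRight (R := A) (A := C) (B := B)).toRingHom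
  let χ : C ⧸ I.map (algebraMap A C) →+* C ⊗[A] B :=
    Ideal.Quotient.lift _ (Algebra.TensorProduct.includeLeftRingHom (R := A) (A := C) (B := B))
      fun c hc ↦ by
        refine RingHom.mem_ker.1 ((Ideal.map_le_iff_le_comap.2 ?_ :
          I.map (algebraMap A C) ≤ RingHom.ker _) hc)
        intro a ha
        show algebraMap A C a ⊗ₜ[A] (1 : B) = 0
        rw [Algebra.TensorProduct.tmul_one_eq_one_tmul, show algebraMap A B a = 0 from ha, tmul_zero]
  letI : Algebra A T := ((algebraMap B T).comp (algebraMap A B)).toAlgebra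
  let cT : C →ₐ[A] T :=
    { toRingHom := e.toRingEquiv.toRingHom.comp (Ideal.Quotient.mk _)
      commutes' := fun a ↦ e.commutes (Ideal.Quotient.mk I a) }
  let bT : B →ₐ[A] T := { toRingHom := algebraMap B T, commutes' := fun _ ↦ rfl }
  let ψ := Algebra.TensorProduct.lift cT bT fun _ _ ↦ Commute.all _ _
  let f : R →+* C ⊗[A] B := χ.comp (e.symm.toRingEquiv.toRingHom.comp (algebraMap R T))
  let g : C ⊗[A] B →+* R := ρ.toRingHom.comp ψ.toRingHom
  have hψχ : ∀ z, ψ (χ z) = e z := by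
    intro z
    obtain ⟨c, rfl⟩ := Ideal.Quotient.mk_surjective z
    show ψ (c ⊗ₜ[A] (1 : B)) = _
    simp [ψ, cT, bT]
  refine ⟨f, g, RingHom.ext fun x ↦ ?_, RingHom.ext fun b ↦ ?_⟩
  · show ρ (ψ (χ (e.symm (algebraMap R T x)))) = x
    rw [hψχ, e.apply_symm_apply, ρ.commutes]
    rfl
  · obtain ⟨a, rfl⟩ := hsurj b
    show χ (e.symm (algebraMap R T (algebraMap B R (algebraMap A B a)))) = ir (algebraMap A B a)
    rw [← IsScalarTower.algebraMap_apply B R T,
      show algebraMap B T (algebraMap A B a) = algebraMap (A ⧸ I) T (Ideal.Quotient.mk I a) from rfl,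
      e.symm.commutes]
    show algebraMap A C a ⊗ₜ[A] (1 : B) = (1 : C) ⊗ₜ[A] algebraMap A B a
    exact Algebra.TensorProduct.tmul_one_eq_one_tmul a

lemma exists_lift_scheme {O Cs W : Scheme.{u}} [IsAffine O] (c : Cs ⟶ O) [IsClosedImmersion c]
    [IsAffine W] (a : W ⟶ Cs) [WeaklyEtale a] (hW : HasSections W) :
    ∃ (V' : Scheme.{u}) (v : V' ⟶ O), IsAffine V' ∧ WeaklyEtale v ∧
      ∃ (σ : W ⟶ pullback v c) (r : pullback v c ⟶ W), σ ≫ r = 𝟙 W ∧ r ≫ a = pullback.snd v c := by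
  haveI : IsAffine Cs := isAffine_of_isAffineHom c
  letI : Algebra Γ(O, ⊤) Γ(Cs, ⊤) := c.appTop.hom.toAlgebra
  letI : Algebra Γ(Cs, ⊤) Γ(W, ⊤) := a.appTop.hom.toAlgebra
  haveI : Algebra.WeaklyEtale Γ(Cs, ⊤) Γ(W, ⊤) := by
    refine WEtSch4.weaklyEtale_SpecMap_iff.1 ?_
    show WeaklyEtale (Spec.map a.appTop)
    rw [show Spec.map a.appTop = W.isoSpec.inv ≫ a ≫ Cs.isoSpec.hom by
      rw [← Scheme.isoSpec_hom_naturality, Iso.inv_hom_id_assoc]]
    infer_instance
  obtain ⟨C, _, _, hC, f, g, hgf, hf⟩ := exists_lift_ring Γ(O, ⊤) Γ(Cs, ⊤) Γ(W, ⊤)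
    ((HasAffineProperty.iff_of_isAffine (P := @IsClosedImmersion)).1
      (inferInstanceAs (IsClosedImmersion c))).2
    ((isWContractible_iff_hasSections W).2 hW)
  let v₀ := Spec.map (CommRingCat.ofHom (algebraMap Γ(O, ⊤) C))
  haveI : WeaklyEtale v₀ := WEtSch4.weaklyEtale_SpecMap_iff.2 hC
  let v : Spec (CommRingCat.of C) ⟶ O := v₀ ≫ O.isoSpec.inv
  let m : pullback v c ⟶ pullback v₀ (Spec.map (CommRingCat.ofHom (algebraMap Γ(O, ⊤) Γ(Cs, ⊤)))) :=
    pullback.map _ _ _ _ (𝟙 _) Cs.isoSpec.hom O.isoSpec.hom (by simp [v])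
      (Scheme.isoSpec_hom_naturality c).symm
  let p := pullbackSpecIso Γ(O, ⊤) C Γ(Cs, ⊤)
  let r : pullback v c ⟶ W := m ≫ p.hom ≫ Spec.map (CommRingCat.ofHom f) ≫ W.isoSpec.inv
  let σ : W ⟶ pullback v c := W.isoSpec.hom ≫ Spec.map (CommRingCat.ofHom g) ≫ p.inv ≫ inv m
  refine ⟨_, v, inferInstance, inferInstance, σ, r, ?_, ?_⟩
  · simp only [σ, r, Category.assoc, IsIso.inv_hom_id_assoc, Iso.inv_hom_id_assoc]
    rw [← Spec.map_comp_assoc, ← CommRingCat.ofHom_comp, hgf, CommRingCat.ofHom_id,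
      Spec.map_id]
    exact (congrArg (W.isoSpec.hom ≫ ·) (Category.id_comp _)).trans W.isoSpec.hom_inv_id
  · rw [← cancel_mono Cs.isoSpec.hom]
    have e1 : W.isoSpec.inv ≫ a ≫ Cs.isoSpec.hom = Spec.map a.appTop := by
      rw [← Scheme.isoSpec_hom_naturality, Iso.inv_hom_id_assoc]
    simp only [r, Category.assoc, e1]
    rw [← Spec.map_comp, show (a.appTop ≫ CommRingCat.ofHom f) =
      CommRingCat.ofHom (Algebra.TensorProduct.includeRight
        (R := Γ(O, ⊤)) (A := C) (B := Γ(Cs, ⊤))).toRingHom from CommRingCat.hom_ext hf]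
    exact (congrArg (m ≫ ·) (pullbackSpecIso_hom_snd _ _ _)).trans (pullback.lift_snd _ _ _)

end Groth.Agent.ProEtWC
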