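import Groth.Agent.Lib.ProEtWC.Near

/-!
The inverse image along a closed immersion preserves limits.
-/

open CategoryTheory Limits AlgebraicGeometry Opposite Set Topology

universe u

namespace Groth.Agent.ProEtWC

set_option backward.isDefEq.respectTransparency.types false
set_option linter.style.haveILetI false

variable {Z X : Scheme.{u}} (i : Z ⟶ X) [IsClosedImmersion i] [ProEtS.PCont i]

/-- Sections over a fixed object. -/
noncomputable abbrev secF (W : X.ProEt) : ProEtS.AbP X ⥤ AddCommGrpCat.{u + 1} :=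
  sheafToPresheaf _ _ ⋙ (evaluation _ _).obj (op W)

lemma isIso_pull_unit (A : ProEtS.AbP X) :
    IsIso ((ProEtS.pullP i).map ((ProEtS.pullPushAdjP i).unit.app A)) := by
  haveI := isIso_counit_pullPush i ((ProEtS.pullP i).obj A)
  have h1 : (ProEtS.pullP i).map ((ProEtS.pullPushAdjP i).unit.app A) ≫
      (ProEtS.pullPushAdjP i).counit.app ((ProEtS.pullP i).obj A) = 𝟙 _ :=
    (ProEtS.pullPushAdjP i).left_triangle_components A
  haveI : IsIso ((ProEtS.pullP i).map ((ProEtS.pullPushAdjP i).unit.app A) ≫
      (ProEtS.pullPushAdjP i).counit.app ((ProEtS.pullP i).obj A)) := by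
    rw [h1]
    exact inferInstanceAs (IsIso (𝟙 ((ProEtS.pullP i).obj A)))
  exact IsIso.of_isIso_comp_right _ ((ProEtS.pullPushAdjP i).counit.app ((ProEtS.pullP i).obj A))

variable {ι : Type u} (F : ι → ProEtS.AbP X)

lemma isIso_pull_productUnit : IsIso ((ProEtS.pullP i).map
    (Limits.Pi.map (fun a ↦ (ProEtS.pullPushAdjP i).unit.app (F a)) :
      (∏ᶜ F) ⟶ ∏ᶜ fun a ↦ (ProEtS.pushP i).obj ((ProEtS.pullP i).obj (F a)))) := by
  let G : ι → ProEtS.AbP X := fun a ↦ (ProEtS.pushP i).obj ((ProEtS.pullP i).obj (F a))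
  let θ : (∏ᶜ F) ⟶ ∏ᶜ G := Limits.Pi.map fun a ↦ (ProEtS.pullPushAdjP i).unit.app (F a)
  have hθπ : ∀ a, θ ≫ Pi.π G a = Pi.π F a ≫ (show F a ⟶ G a from (ProEtS.pullPushAdjP i).unit.app (F a)) :=
    fun a ↦ Limits.Pi.map_π (g := G) _ a
  haveI hlim : PreservesFiniteLimits (ProEtS.pullP i) := pullP_preservesFiniteLimits i
  haveI : (ProEtS.pullP i).IsLeftAdjoint := (ProEtS.pullPushAdjP i).isLeftAdjoint
  haveI : (ProEtS.pullP i).Additive := Functor.additive_of_preserves_binary_products _
  haveI : ∀ a, IsIso ((ProEtS.pullP i).map ((ProEtS.pullPushAdjP i).unit.app (F a))) :=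
    fun a ↦ isIso_pull_unit i _
  haveI : PreservesFiniteColimits (ProEtS.pullP i) := inferInstance
  have hker : IsZero ((ProEtS.pullP i).obj (kernel θ)) := by
    refine isZero_pull_of_near i _ fun W hW s ↦ ?_
    have hinj : Function.Injective ((secF W).map (kernel.ι θ)).hom :=
      (AddCommGrpCat.mono_iff_injective _).1 inferInstance
    refine hinj ((Concrete.isLimit_ext _ (isLimitOfHasProductOfPreservesLimit (secF W) F) _ _ ?_).trans
      (map_zero _).symm)
    rintro ⟨a⟩
    show (secF W).map (Pi.π F a) ((secF W).map (kernel.ι θ) s) = (secF W).map (Pi.π F a) 0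
    rw [map_zero]
    have hk : IsZero ((ProEtS.pullP i).obj (kernel ((ProEtS.pullPushAdjP i).unit.app (F a)))) :=
      (isZero_kernel_of_mono ((ProEtS.pullP i).map _)).of_iso (PreservesKernel.iso _ _)
    let l : kernel θ ⟶ kernel ((ProEtS.pullPushAdjP i).unit.app (F a)) :=
      kernel.lift _ (kernel.ι θ ≫ Pi.π F a) (by
        have h : Pi.π F a ≫ (ProEtS.pullPushAdjP i).unit.app (F a) = θ ≫ Pi.π G a := (hθπ a).symm
        rw [Category.assoc, h, ← Category.assoc, kernel.condition, zero_comp])
    have hz := near_eq_zero i _ hk hW ((secF W).map l s)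
    rw [← ConcreteCategory.comp_apply, ← Functor.map_comp,
      show kernel.ι θ ≫ Pi.π F a = l ≫ kernel.ι _ from (kernel.lift_ι _ _ _).symm,
      Functor.map_comp, ConcreteCategory.comp_apply, hz, map_zero]
  have hcoker : IsZero ((ProEtS.pullP i).obj (cokernel θ)) := by
    refine isZero_pull_of_near i _ fun W hW s ↦ ?_
    haveI : Sheaf.IsLocallySurjective (cokernel.π θ) :=
      (Sheaf.isLocallySurjective_iff_epi' _ _).2 inferInstance
    obtain ⟨κ, Y, g, hg, hY⟩ := near_cover i hW
      (Presheaf.imageSieve_mem (Scheme.ProEt.topology X) (cokernel.π θ).hom s)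
    refine eq_zero_of_cover _ hg fun k ↦ ?_
    obtain ⟨t, ht⟩ := (hY k).2
    rw [← ht]
    obtain ⟨μ, D, d, hd, hD⟩ := exists_affine_wc_cover (Y k)
    refine eq_zero_of_cover _ hd fun m ↦ ?_
    rw [← NatTrans.naturality_apply (cokernel.π θ).hom (d m).op t]
    haveI := (hD m).1
    have hDwc : ProEtS.IsWC (D m) :=
      (isWC_iff_hasSections _).2 ((isWContractible_iff_hasSections _).1 (hD m).2)
    have hlift : ∀ a, ∃ y : (F a).obj.obj (op (D m)),
        ((ProEtS.pullPushAdjP i).unit.app (F a)).hom.app (op (D m)) y =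
          (G a).obj.map (d m).op ((secF (Y k)).map (Pi.π G a) t) := by
      intro a
      let u' := (ProEtS.pullPushAdjP i).unit.app (F a)
      have hk : IsZero ((ProEtS.pullP i).obj (cokernel u')) :=
        (isZero_cokernel_of_epi ((ProEtS.pullP i).map u')).of_iso (PreservesCokernel.iso _ _)
      have h0 := near_eq_zero i _ hk (hY k).1 ((secF (Y k)).map (cokernel.π u') ((secF (Y k)).map (Pi.π G a) t))
      let hex := (ShortComplex.mk (Abelian.image.ι u') (cokernel.π u') (kernel.condition (cokernel.π u')))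
      have he : (hex.map (secF (Y k))).Exact :=
        ShortComplex.exact_of_f_is_kernel _
          (isLimitForkMapOfIsLimit' (secF (Y k)) (kernel.condition (cokernel.π u')) (kernelIsKernel (cokernel.π u')))
      obtain ⟨w, hw⟩ := (ShortComplex.ab_exact_iff _).1 he ((secF (Y k)).map (Pi.π G a) t) h0
      haveI : Epi (Abelian.factorThruImage u') := inferInstance
      obtain ⟨y, hy⟩ := surjective_app_of_epi hDwc (Abelian.factorThruImage u')
        ((Abelian.image u').obj.map (d m).op w)
      refine ⟨y, ?_⟩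
      have hfac : Abelian.factorThruImage u' ≫ Abelian.image.ι u' = u' := Abelian.image.fac u'
      calc u'.hom.app (op (D m)) y
          = (Abelian.image.ι u').hom.app (op (D m)) ((Abelian.factorThruImage u').hom.app (op (D m)) y) :=
            (congrArg (fun φ : F a ⟶ G a ↦ φ.hom.app (op (D m)) y) hfac).symm
        _ = (G a).obj.map (d m).op ((Abelian.image.ι u').hom.app (op (Y k)) w) := by
            rw [hy]
            exact NatTrans.naturality_apply (Abelian.image.ι u').hom (d m).op w
        _ = _ := congrArg _ hw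
    choose y hy using hlift
    obtain ⟨yy, hyy⟩ : ∃ yy : (secF (D m)).obj (∏ᶜ F), ∀ a, (secF (D m)).map (Pi.π F a) yy = y a := by
      let e := PreservesProduct.iso (secF (D m)) F
      let yy₀ := (Concrete.productEquiv (fun a ↦ (secF (D m)).obj (F a))).symm y
      refine ⟨e.inv yy₀, fun a ↦ ?_⟩
      rw [← ConcreteCategory.comp_apply]
      have : e.inv ≫ (secF (D m)).map (Pi.π F a) = Pi.π _ a := by
        rw [Iso.inv_comp_eq, PreservesProduct.iso_hom, piComparison_comp_π]
      rw [this]
      exact Concrete.productEquiv_symm_apply_π _ y a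
    have hθ : (secF (D m)).map θ yy = (∏ᶜ G).obj.map (d m).op t := by
      refine Concrete.isLimit_ext _ (isLimitOfHasProductOfPreservesLimit (secF (D m)) G) _ _ ?_
      rintro ⟨a⟩
      show (secF (D m)).map (Pi.π G a) ((secF (D m)).map θ yy) =
        (secF (D m)).map (Pi.π G a) ((∏ᶜ G).obj.map (d m).op t)
      rw [← ConcreteCategory.comp_apply, ← Functor.map_comp,
        hθπ a, Functor.map_comp,
        ConcreteCategory.comp_apply, hyy a]
      exact (hy a).trans (NatTrans.naturality_apply (Pi.π G a).hom (d m).op t).symm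
    show (secF (D m)).map (cokernel.π θ) ((∏ᶜ G).obj.map (d m).op t) = 0
    rw [← hθ, ← ConcreteCategory.comp_apply, ← Functor.map_comp, cokernel.condition, Functor.map_zero]
    rfl
  haveI : Mono ((ProEtS.pullP i).map θ) :=
    Preadditive.mono_of_isZero_kernel _ (hker.of_iso (PreservesKernel.iso _ _).symm)
  haveI : Epi ((ProEtS.pullP i).map θ) :=
    Preadditive.epi_of_isZero_cokernel _ (hcoker.of_iso (PreservesCokernel.iso _ _).symm)
  exact isIso_of_mono_of_epi _

theorem pullP_preservesProduct : PreservesLimit (Discrete.functor F) (ProEtS.pullP i) := by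
  let P := fun a ↦ (ProEtS.pullP i).obj (F a)
  haveI : (ProEtS.pushP i).IsRightAdjoint := (ProEtS.pullPushAdjP i).isRightAdjoint
  haveI := isIso_pull_productUnit i F
  haveI := isIso_counit_pullPush i (∏ᶜ P)
  let θ : (∏ᶜ F) ⟶ ∏ᶜ fun a ↦ (ProEtS.pushP i).obj (P a) :=
    Limits.Pi.map fun a ↦ (ProEtS.pullPushAdjP i).unit.app (F a)
  have h : piComparison (ProEtS.pullP i) F = (ProEtS.pullP i).map θ ≫
      (ProEtS.pullP i).map (PreservesProduct.iso (ProEtS.pushP i) P).inv ≫
        (ProEtS.pullPushAdjP i).counit.app (∏ᶜ P) := by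
    refine Pi.hom_ext _ _ fun a ↦ ?_
    have h2 : (PreservesProduct.iso (ProEtS.pushP i) P).inv ≫ (ProEtS.pushP i).map (Pi.π P a) =
        Pi.π _ a := by
      rw [Iso.inv_comp_eq, PreservesProduct.iso_hom, piComparison_comp_π]
    have h3 : θ ≫ Pi.π (fun a ↦ (ProEtS.pushP i).obj (P a)) a =
        Pi.π F a ≫ (ProEtS.pullPushAdjP i).unit.app (F a) := Limits.Pi.map_π _ _
    erw [piComparison_comp_π]
    symm
    calc ((ProEtS.pullP i).map θ ≫ (ProEtS.pullP i).map (PreservesProduct.iso (ProEtS.pushP i) P).inv ≫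
          (ProEtS.pullPushAdjP i).counit.app (∏ᶜ P)) ≫ Pi.π P a
        = (ProEtS.pullP i).map (θ ≫ (PreservesProduct.iso (ProEtS.pushP i) P).inv ≫
            (ProEtS.pushP i).map (Pi.π P a)) ≫ (ProEtS.pullPushAdjP i).counit.app (P a) := by
          simp only [Functor.map_comp, Category.assoc]
          congr 2
          exact ((ProEtS.pullPushAdjP i).counit.naturality (Pi.π P a)).symm
      _ = (ProEtS.pullP i).map (Pi.π F a) := by
          rw [h2, h3, Functor.map_comp, Category.assoc]
          exact (congrArg ((ProEtS.pullP i).map (Pi.π F a) ≫ ·)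
            ((ProEtS.pullPushAdjP i).left_triangle_components (F a))).trans (Category.comp_id _)
  haveI : IsIso ((ProEtS.pullP i).map θ) := isIso_pull_productUnit i F
  haveI : IsIso (piComparison (ProEtS.pullP i) F) := by
    rw [h]
    infer_instance
  exact PreservesProduct.of_iso_comparison _ _

theorem pullP_preservesLimits (J : Type u) [SmallCategory J] :
    PreservesLimitsOfShape J (ProEtS.pullP i) := by
  haveI := pullP_preservesFiniteLimits i
  haveI : ∀ ι : Type u, PreservesLimitsOfShape (Discrete ι) (ProEtS.pullP i) := fun ι ↦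
    ⟨fun {K} ↦
      haveI : PreservesLimit (Discrete.functor (K.obj ∘ Discrete.mk)) (ProEtS.pullP i) :=
        pullP_preservesProduct i _
      preservesLimit_of_iso_diagram _ Discrete.natIsoFunctor.symm⟩
  exact preservesLimit_of_preservesEqualizers_and_product _

end Groth.Agent.ProEtWC
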