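import Groth.Agent.Lib.ProEtWC.ClosedLift

/-!
Local lifting of weakly contractible objects along a closed immersion.
-/

open CategoryTheory Limits AlgebraicGeometry Opposite Set Topology

universe u

namespace Groth.Agent.ProEtWC

set_option backward.isDefEq.respectTransparency.types false
set_option linter.style.haveILetI false

variable {Z X : Scheme.{u}}

lemma hasSections_clopen {W : Scheme.{u}} [IsAffine W] (hW : HasSections W) (O : W.Opens)
    (hO : IsClopen (O : Set W)) : IsAffine O.toScheme ∧ HasSections O.toScheme := by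
  haveI : IsClosedImmersion O.ι :=
    IsClosedImmersion.of_isPreimmersion O.ι (by rw [Scheme.Opens.range_ι]; exact hO.1)
  haveI : IsAffine O.toScheme := isAffine_of_isAffineHom O.ι
  refine ⟨inferInstance, (isWContractible_iff_hasSections _).1 ?_⟩
  letI : Algebra Γ(W, ⊤) Γ(O.toScheme, ⊤) := O.ι.appTop.hom.toAlgebra
  refine isWContractible_of_surjective
    ((HasAffineProperty.iff_of_isAffine (P := @IsClosedImmersion)).1
      (inferInstanceAs (IsClosedImmersion O.ι))).2 ?_ ((isWContractible_iff_hasSections W).2 hW)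
  change IsCompact (range (Spec.map O.ι.appTop))ᶜ
  have hc : IsCompact (range O.ι)ᶜ := by
    rw [Scheme.Opens.range_ι]
    exact hO.compl.1.isCompact
  have heq : range (Spec.map O.ι.appTop) = W.isoSpec.hom '' range O.ι := by
    rw [← range_comp, show (W.isoSpec.hom : _ → _) ∘ O.ι = ⇑(O.ι ≫ W.isoSpec.hom) from rfl]
    refine Eq.trans ?_ (congrArg (fun q : _ ⟶ Spec Γ(W, ⊤) ↦ range q)
      (Scheme.isoSpec_hom_naturality O.ι))
    exact (Function.Surjective.range_comp O.toScheme.isoSpec.hom.surjective _).symm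
  rw [heq]
  have hb : Function.Bijective W.isoSpec.hom := W.isoSpec.hom.homeomorph.bijective
  exact (image_compl_eq hb).symm ▸ hc.image W.isoSpec.hom.continuous

lemma exists_local_lift (i : Z ⟶ X) [IsClosedImmersion i] (W : Z.ProEt) [IsAffine W.left]
    (hW : HasSections W.left) (V : X.ProEt) (a : W ⟶ (ProEtS.bcP i).obj V) :
    ∃ (ι : Type u) (_ : Finite ι) (Wk : ι → Z.ProEt) (g : ∀ k, Wk k ⟶ W),
      (∀ k, IsOpenImmersion (g k).left) ∧
      (Pairwise fun k l ↦ Disjoint (range (g k).left) (range (g l).left)) ∧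
      (∀ x : W.left, ∃ k, x ∈ range (g k).left) ∧
      ∀ k, ∃ (Vk : X.ProEt) (h : Vk ⟶ V) (σ : Wk k ⟶ (ProEtS.bcP i).obj Vk)
        (r : (ProEtS.bcP i).obj Vk ⟶ Wk k),
        σ ≫ r = 𝟙 _ ∧ r ≫ g k ≫ a = (ProEtS.bcP i).map h := by
  let b : W.left ⟶ V.left := a.left ≫ pullback.fst V.hom i
  have hR := opens_cover_mem W (fun O : V.left.affineOpens ↦ b ⁻¹ᵁ O.1) (by
    refine eq_top_iff.2 fun x _ ↦ ?_
    obtain ⟨O, hO⟩ := TopologicalSpace.Opens.mem_iSup.1
      ((iSup_affineOpens_eq_top V.left).ge (TopologicalSpace.Opens.mem_top (b x)))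
    exact TopologicalSpace.Opens.mem_iSup.2 ⟨O, hO⟩)
  obtain ⟨n, O', hcl, hd, hu, hmem⟩ := refinedByClopen_of_hasSections hW _ hR
  refine ⟨ULift.{u} (Fin n), inferInstance, fun k ↦ overObj W (O' k.down).ι,
    fun k ↦ overHom W (O' k.down).ι, fun k ↦ inferInstanceAs (IsOpenImmersion (O' k.down).ι), ?_, ?_,
    fun k ↦ ?_⟩
  · intro k l hkl
    change Disjoint (range (O' k.down).ι) (range (O' l.down).ι)
    rw [Scheme.Opens.range_ι, Scheme.Opens.range_ι]
    exact hd fun h ↦ hkl (ULift.ext _ _ h)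
  · intro x
    obtain ⟨k, hk⟩ := mem_iUnion.1 (hu.ge (mem_univ x))
    exact ⟨⟨k⟩, (Scheme.Opens.range_ι _).ge hk⟩
  obtain ⟨Y, e, f, hf, hef⟩ := hmem k.down
  obtain ⟨O⟩ := hf
  let Wo := O' k.down
  obtain ⟨hWa, hWs⟩ := hasSections_clopen hW Wo (hcl k.down)
  have hle : range (Wo.ι ≫ b) ⊆ range O.1.ι := by
    rintro _ ⟨x, rfl⟩
    rw [Scheme.Opens.range_ι]
    have h1 : Wo.ι x = (b ⁻¹ᵁ O.1).ι (e.left x) :=
      (congr($(congrArg (fun φ ↦ CommaMorphism.left (MorphismProperty.Comma.Hom.hom φ)) hef) x)).symm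
    show b (Wo.ι x) ∈ (O.1 : Set V.left)
    rw [h1]
    exact (e.left x).2
  haveI : IsAffine O.1.toScheme := O.2
  let q : O.1.toScheme ⟶ X := O.1.ι ≫ V.hom
  let c : pullback q i ⟶ O.1.toScheme := pullback.fst q i
  haveI : IsClosedImmersion c :=
    MorphismProperty.pullback_fst (P := @IsClosedImmersion) _ _ ‹IsClosedImmersion i›
  have ha2 : a.left ≫ pullback.snd V.hom i = W.hom := MorphismProperty.Over.w a
  let ak : Wo.toScheme ⟶ pullback q i := pullback.lift (IsOpenImmersion.lift O.1.ι (Wo.ι ≫ b) hle)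
    (Wo.ι ≫ W.hom) (by
      simp only [q, IsOpenImmersion.lift_fac_assoc, b, Category.assoc, ← ha2]
      exact congrArg (fun φ ↦ Wo.ι ≫ a.left ≫ φ) pullback.condition)
  haveI : WeaklyEtale (pullback.snd q i) := inferInstance
  haveI : WeaklyEtale ak := by
    haveI : WeaklyEtale (ak ≫ pullback.snd q i) := by
      rw [pullback.lift_snd]
      infer_instance
    exact WeaklyEtale.of_comp ak (pullback.snd q i)
  haveI : IsAffine Wo.toScheme := hWa
  obtain ⟨V', v, _, hv, σ, r, hσr, hr⟩ := exists_lift_scheme c ak hWs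
  haveI := hv
  let VO : X.ProEt := overObj V O.1.ι
  let v' : V' ⟶ VO.left := v
  haveI : WeaklyEtale v' := hv
  let Vk : X.ProEt := overObj VO v'
  let iso : pullback v c ≅ pullback (v ≫ q) i := pullbackRightPullbackFstIso q i v
  have hfst : iso.inv ≫ pullback.snd v c ≫ pullback.fst q i = pullback.fst (v ≫ q) i ≫ v :=
    pullbackRightPullbackFstIso_inv_snd_fst _ _ _
  have hsnd : iso.inv ≫ pullback.snd v c ≫ pullback.snd q i = pullback.snd (v ≫ q) i :=
    pullbackRightPullbackFstIso_inv_snd_snd _ _ _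
  have hWk : ak ≫ pullback.snd q i = Wo.ι ≫ W.hom := pullback.lift_snd _ _ _
  refine ⟨Vk, overHom VO v' ≫ overHom V O.1.ι,
    MorphismProperty.Over.homMk (σ ≫ iso.hom) ?_,
    MorphismProperty.Over.homMk (iso.inv ≫ r) ?_, ?_, ?_⟩
  · show (σ ≫ iso.hom) ≫ pullback.snd (v ≫ q) i = Wo.ι ≫ W.hom
    rw [← hsnd, Category.assoc, Iso.hom_inv_id_assoc, ← hr, Category.assoc, ← Category.assoc σ, hσr,
      Category.id_comp, hWk]
  · show (iso.inv ≫ r) ≫ Wo.ι ≫ W.hom = pullback.snd (v ≫ q) i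
    rw [← hsnd, ← hr, Category.assoc, Category.assoc, hWk]
  · refine MorphismProperty.Over.Hom.ext ?_
    show (σ ≫ iso.hom) ≫ iso.inv ≫ r = 𝟙 _
    rw [Category.assoc, Iso.hom_inv_id_assoc, hσr]
  · refine MorphismProperty.Over.Hom.ext (pullback.hom_ext ?_ ?_)
    · refine Eq.trans ?_ (pullback.lift_fst _ _ _).symm
      show ((iso.inv ≫ r) ≫ Wo.ι ≫ a.left) ≫ pullback.fst V.hom i = pullback.fst (v ≫ q) i ≫ v ≫ O.1.ι
      have h2 : Wo.ι ≫ a.left ≫ pullback.fst V.hom i = ak ≫ pullback.fst q i ≫ O.1.ι := by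
        simp only [ak, pullback.lift_fst_assoc, IsOpenImmersion.lift_fac]
        rfl
      simp only [Category.assoc]
      rw [h2, reassoc_of% hr, reassoc_of% hfst]
    · refine Eq.trans ?_ (pullback.lift_snd _ _ _).symm
      show ((iso.inv ≫ r) ≫ Wo.ι ≫ a.left) ≫ pullback.snd V.hom i = pullback.snd (v ≫ q) i
      simp only [Category.assoc, ha2]
      rw [← hWk, ← Category.assoc r, hr, hsnd]

end Groth.Agent.ProEtWC
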