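import Groth.Agent.Lib.ProEtWC.Glue
import Mathlib.AlgebraicGeometry.Morphisms.UniversallyOpen
import Mathlib.CategoryTheory.Sites.Pullback

/-!
Extension by zero vanishes on objects concentrated away from the open part.
-/

open CategoryTheory Limits AlgebraicGeometry Opposite

universe u

namespace Groth.Agent.ProEtWC

set_option backward.isDefEq.respectTransparency.types false
set_option linter.style.haveILetI false

theorem subsingleton_extZero {U X Z : Scheme.{u}} (j : U ⟶ X) [WeaklyEtale j] (i : Z ⟶ X)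
    (hUZ : Disjoint (Set.range j.base) (Set.range i.base)) [ProEtS.JPCont j]
    (V : X.ProEt) [IsAffine V.left]
    (hV : ∀ v : ↥V.left, ∃ z : ↥V.left, V.hom.base z ∈ Set.range i.base ∧ v ⤳ z)
    (F : ProEtS.AbP U) :
    Subsingleton (ProEtS.sectP ((ProEtS.extZeroP j).obj F) V) := by
  let J := Scheme.ProEt.topology X
  let L := (ProEtS.compP j).op
  let e := ((Functor.sheafPullbackConstruction.sheafPullbackIso (ProEtS.compP j) AddCommGrpCat.{u + 1}
    (Scheme.ProEt.topology U) J).app F)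
  let Q := L.lan.obj F.obj
  suffices h : ∀ s : ((presheafToSheaf J AddCommGrpCat.{u + 1}).obj Q).obj.obj (op V), s = 0 by
    refine ⟨fun a b ↦ ?_⟩
    have hinj : Function.Injective (((sheafToPresheaf J _).mapIso e).app (op V)).hom :=
      Function.LeftInverse.injective
        (g := (((sheafToPresheaf J _).mapIso e).app (op V)).inv) fun x ↦
        (((sheafToPresheaf J _).mapIso e).app (op V)).hom_inv_id_apply x
    exact hinj ((h _).trans (h _).symm)
  intro s
  have hQ : ∀ W : X.ProEt, (∃ w : W.left, W.hom w ∈ Set.range i.base) →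
      ∀ t : Q.obj (op W), t = 0 := by
    rintro W ⟨w, hw⟩ t
    haveI : IsEmpty (CostructuredArrow L (op W)) := ⟨fun K ↦ by
      let a : W ⟶ (ProEtS.compP j).obj K.left.unop := K.hom.unop
      have h1 : a.left ≫ (K.left.unop.hom ≫ j) = W.hom := MorphismProperty.Over.w a
      refine Set.disjoint_left.1 hUZ ⟨(a.left ≫ K.left.unop.hom) w, ?_⟩ hw
      rw [← h1]
      rfl⟩
    have hz : IsZero (Q.obj (op W)) := by
      rw [IsZero.iff_id_eq_zero]
      exact (Functor.isPointwiseLeftKanExtensionLeftKanExtensionUnit L F.obj (op W)).hom_ext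
        fun K ↦ isEmptyElim K
    haveI := AddCommGrpCat.subsingleton_of_isZero hz
    exact Subsingleton.elim _ _
  obtain ⟨ι, _, B, b, hb, hB, hcov, hR⟩ :=
    exists_affine_refinement (Presheaf.imageSieve_mem J (toSheafify J Q) s)
  let κ := {k : ι // ∃ y : B k, V.hom (b k y) ∈ Set.range i.base}
  haveI := hb
  haveI := hB
  haveI : ∀ k : κ, QuasiCompact (b k.1) := fun k ↦ inferInstance
  have hjs : ∀ x : V.left, ∃ k : κ, ∃ y : B k.1, b k.1 y = x := by
    intro x
    obtain ⟨z, hz, hxz⟩ := hV x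
    obtain ⟨k, y, rfl⟩ := hcov z
    obtain ⟨y', -, hy'⟩ := Flat.generalizingMap (b k) hxz
    exact ⟨⟨k, y, hz⟩, y', hy'⟩
  have hmem : Sieve.generate (Presieve.ofArrows (fun k : κ ↦ overObj V (b k.1))
      fun k ↦ overHom V (b k.1)) ∈ J V := by
    refine cover_mem _ _ ?_ hjs
    let 𝒰 := Scheme.Cover.mkOfCovers (P := @WeaklyEtale) κ
      (fun k ↦ B k.1) (fun k ↦ b k.1) hjs fun k ↦ hb k.1
    haveI : ∀ k, QuasiCompact (𝒰.f k) := fun k : κ ↦ inferInstanceAs (QuasiCompact (b k.1))
    haveI : Finite 𝒰.I₀ := inferInstanceAs (Finite κ)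
    exact QuasiCompactCover.of_finite (𝒰 := 𝒰)
  let P := (presheafToSheaf J AddCommGrpCat.{u + 1}).obj Q
  have hP : Presieve.IsSheaf J (P.obj ⋙ CategoryTheory.forget AddCommGrpCat.{u + 1}) :=
    (isSheaf_iff_isSheaf_of_type _ _).1 ((sheafCompose J (CategoryTheory.forget _)).obj P).property
  refine ((Presieve.isSheafFor_iff_generate _).2 (hP _ hmem)).isSeparatedFor.ext ?_
  rintro Y f ⟨k⟩
  obtain ⟨k, y, hy⟩ := k
  obtain ⟨t, ht⟩ := hR k
  show P.obj.map (overHom V (b k)).op s = P.obj.map (overHom V (b k)).op 0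
  rw [map_zero, ← map_zero ((toSheafify J Q).app (op (overObj V (b k)))).hom]
  refine ht.symm.trans (congrArg _ (hQ (overObj V (b k)) ⟨y, hy⟩ t))

end Groth.Agent.ProEtWC
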