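import Groth.Agent.Lib.ProEtWC.Recollement
import Groth.Agent.Lib.ProEtWC.ClosedLimits
import Mathlib.AlgebraicGeometry.IdealSheaf.Subscheme

/-!
Extension by zero along a quasi-compact open immersion preserves limits.
-/

open CategoryTheory Limits AlgebraicGeometry Opposite Set Topology

universe v v' u u'

namespace Groth.Agent.ProEtWC

set_option backward.isDefEq.respectTransparency.types false
set_option linter.style.haveILetI false

section

variable {C : Type u} [Category.{v} C] {D : Type u'} [Category.{v'} D] [HasZeroMorphisms D]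
  [HasKernels D] {F G : C ⥤ D}

/-- The pointwise kernel of a natural transformation. -/
noncomputable def kerFunctor (α : F ⟶ G) : C ⥤ D where
  obj X := kernel (α.app X)
  map f := kernel.map _ _ (F.map f) (G.map f) (α.naturality f).symm
  map_id X := by ext; simp
  map_comp f g := by ext; simp

lemma preservesLimitsOfShape_kerFunctor (α : F ⟶ G) (J : Type*) [Category J]
    [PreservesLimitsOfShape J F] [PreservesLimitsOfShape J G] :
    PreservesLimitsOfShape J (kerFunctor α) := by
  refine ⟨fun {K} ↦ ⟨fun {c} hc ↦ ⟨?_⟩⟩⟩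
  let hF := isLimitOfPreserves F hc
  let hG := isLimitOfPreserves G hc
  let sF : Cone (K ⋙ kerFunctor α) → Cone (K ⋙ F) := fun s ↦
    { pt := s.pt
      π := { app := fun j ↦ s.π.app j ≫ kernel.ι (α.app (K.obj j))
             naturality := fun j j' f ↦ by
              have h := s.w f
              change 𝟙 _ ≫ _ = _
              rw [Category.id_comp, ← h]
              simp [kerFunctor] } }
  have hs : ∀ s, hF.lift (sF s) ≫ α.app c.pt = 0 := fun s ↦ hG.hom_ext fun j ↦ by
    change (hF.lift (sF s) ≫ α.app c.pt) ≫ G.map (c.π.app j) = 0 ≫ G.map (c.π.app j)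
    rw [zero_comp, Category.assoc, ← α.naturality, ← Category.assoc,
      show hF.lift (sF s) ≫ F.map (c.π.app j) = (sF s).π.app j from hF.fac (sF s) j]
    simp only [sF]
    refine (Category.assoc _ _ _).trans ?_
    exact (congrArg (s.π.app j ≫ ·) (kernel.condition _)).trans comp_zero
  exact
    { lift := fun s ↦ kernel.lift _ (hF.lift (sF s)) (hs s)
      fac := fun s j ↦ by
        refine (cancel_mono (kernel.ι (α.app (K.obj j)))).1 ?_
        exact (Category.assoc _ _ _).trans ((congrArg (kernel.lift _ (hF.lift (sF s)) (hs s) ≫ ·)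
          (kernel.lift_ι _ _ _)).trans ((kernel.lift_ι_assoc _ _ _ _).trans (hF.fac (sF s) j)))
      uniq := fun s m hm ↦ by
        refine (cancel_mono (kernel.ι (α.app c.pt))).1 (Eq.trans ?_ (kernel.lift_ι _ _ _).symm)
        refine hF.uniq (sF s) _ fun j ↦ ?_
        have h := congrArg (· ≫ kernel.ι (α.app (K.obj j))) (hm j)
        exact (Category.assoc _ _ _).trans ((congrArg (m ≫ ·) (kernel.lift_ι _ _ _).symm).trans
          ((Category.assoc _ _ _).symm.trans h)) }

end

variable {Z U X : Scheme.{u}}

theorem extZeroP_preservesLimits_of_complement (i : Z ⟶ X) [IsClosedImmersion i] (j : U ⟶ X)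
    [IsOpenImmersion j] [QuasiCompact j] (hc : range j.base = (range i.base)ᶜ) [ProEtS.JPCont j]
    (J : Type u) [SmallCategory J] : PreservesLimitsOfShape J (ProEtS.extZeroP j) := by
  haveI := pCont i
  haveI := pCont j
  haveI := isIso_restrPushAdj_counit j
  haveI : (ProEtS.pushP i).IsRightAdjoint := (ProEtS.pullPushAdjP i).isRightAdjoint
  haveI : (ProEtS.pushP j).IsRightAdjoint := (ProEtS.pullPushAdjP j).isRightAdjoint
  haveI := pullP_preservesLimits i J
  let P := ProEtS.pushP j
  let β : P ⋙ 𝟭 _ ⟶ P ⋙ ProEtS.pullP i ⋙ ProEtS.pushP i :=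
    Functor.whiskerLeft P (ProEtS.pullPushAdjP i).unit
  haveI := preservesLimitsOfShape_kerFunctor β J
  let e₁ : ∀ G, (ProEtS.extZeroP j).obj G ≅ (ProEtS.extZeroP j).obj ((ProEtS.restrP j).obj (P.obj G)) :=
    fun G ↦ (ProEtS.extZeroP j).mapIso ((asIso (restrPushAdj j).counit).app G).symm
  let φ : ∀ G, (ProEtS.extZeroP j).obj ((ProEtS.restrP j).obj (P.obj G)) ⟶ (kerFunctor β).obj G :=
    fun G ↦ kernel.lift _ ((ProEtS.extZeroPAdj j).counit.app (P.obj G))
      (shortExact_recollement i j hc (P.obj G)).choose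
  haveI : ∀ G, IsIso (φ G) := fun G ↦ by
    obtain ⟨h, hS⟩ := shortExact_recollement i j hc (P.obj G)
    exact ((hS.fIsKernel).conePointUniqueUpToIso (kernelIsKernel (β.app G))).isIso_hom
  refine preservesLimitsOfShape_of_natIso (NatIso.ofComponents (fun G ↦ e₁ G ≪≫ asIso (φ G))
    fun {G G'} f ↦ ?_).symm
  have hn : (ProEtS.restrP j).map (P.map f) ≫ (restrPushAdj j).counit.app G' =
      (restrPushAdj j).counit.app G ≫ f := (restrPushAdj j).counit.naturality f
  have hx : f ≫ inv ((restrPushAdj j).counit.app G') =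
      inv ((restrPushAdj j).counit.app G) ≫ (ProEtS.restrP j).map (P.map f) := by
    rw [IsIso.eq_inv_comp, ← Category.assoc, IsIso.comp_inv_eq, hn]
  refine (cancel_mono (kernel.ι (β.app G'))).1 ?_
  simp only [e₁, φ, Iso.trans_hom, asIso_hom, Functor.mapIso_hom, Iso.symm_hom, Iso.app_inv,
    asIso_inv, NatIso.isIso_inv_app, Category.assoc, kerFunctor, kernel.lift_ι,
    kernel.lift_ι_assoc]
  rw [← Functor.map_comp_assoc, hx, Functor.map_comp_assoc]
  exact congrArg _ ((ProEtS.extZeroPAdj j).counit.naturality (P.map f))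

theorem extZeroP_preservesLimits (j : U ⟶ X) [IsOpenImmersion j] [QuasiCompact j] [ProEtS.JPCont j]
    (J : Type u) [SmallCategory J] : PreservesLimitsOfShape J (ProEtS.extZeroP j) := by
  let C : TopologicalSpace.Closeds X := ⟨(range j.base)ᶜ, j.isOpenEmbedding.isOpen_range.isClosed_compl⟩
  let I := Scheme.IdealSheafData.vanishingIdeal C
  refine extZeroP_preservesLimits_of_complement I.subschemeι j ?_ J
  rw [Scheme.IdealSheafData.range_subschemeι, Scheme.IdealSheafData.coe_support_vanishingIdeal]
  exact (compl_compl _).symm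

end Groth.Agent.ProEtWC
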