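import Groth.Agent.Lib.ProEtWC.Basic
import Groth.Agent.Lib.WEtaleH7.Field
import Mathlib.AlgebraicGeometry.PullbackCarrier
import Mathlib.FieldTheory.PurelyInseparable.Basic

/-!
Geometric points lift along pro-étale coverings.
-/

open CategoryTheory Limits AlgebraicGeometry Opposite

universe u

namespace Groth.Agent.ProEtWC

set_option backward.isDefEq.respectTransparency.types false
set_option linter.style.haveILetI false

variable {k : Type u} [Field k] [IsSepClosed k]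

lemma exists_algHom_of_weaklyEtale (T : Type u) [CommRing T] [Algebra k T] [Nontrivial T]
    [Algebra.WeaklyEtale k T] : Nonempty (T →ₐ[k] k) := by
  obtain ⟨m, hm⟩ := Ideal.exists_maximal T
  letI := Ideal.Quotient.field m
  haveI : Algebra.IsSeparable k (T ⧸ m) := ⟨fun z ↦ by
    obtain ⟨t, rfl⟩ := Ideal.Quotient.mk_surjective z
    obtain ⟨P, hP, hPt⟩ := WEtaleH7.exists_separable_of_weaklyEtale (K := k) t
    refine hP.of_dvd (minpoly.dvd k _ ?_)
    rw [show Ideal.Quotient.mk m t = Ideal.Quotient.mkₐ k m t from rfl,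
      Polynomial.aeval_algHom_apply, hPt, map_zero]⟩
  haveI : IsPurelyInseparable k (T ⧸ m) := inferInstance
  exact ⟨((AlgEquiv.ofBijective (Algebra.ofId k (T ⧸ m)) ⟨(algebraMap k (T ⧸ m)).injective,
    IsPurelyInseparable.surjective_algebraMap_of_isSeparable k (T ⧸ m)⟩).symm.toAlgHom).comp
      (Ideal.Quotient.mkₐ k m)⟩

lemma exists_section_of_weaklyEtale {P : Scheme.{u}} [IsAffine P] [Nonempty P]
    (p : P ⟶ Spec (CommRingCat.of k)) [WeaklyEtale p] :
    ∃ s : Spec (CommRingCat.of k) ⟶ P, s ≫ p = 𝟙 _ := by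
  obtain ⟨f, hf⟩ := Spec.map_surjective (P.isoSpec.inv ≫ p)
  letI : Algebra k Γ(P, ⊤) := f.hom.toAlgebra
  haveI : Algebra.WeaklyEtale k Γ(P, ⊤) := by
    refine WEtSch4.weaklyEtale_SpecMap_iff.1 ?_
    show WeaklyEtale (Spec.map f)
    rw [hf]
    infer_instance
  haveI : Nonempty (PrimeSpectrum Γ(P, ⊤)) := ⟨P.isoSpec.hom (Classical.arbitrary P)⟩
  haveI : Nontrivial Γ(P, ⊤) := PrimeSpectrum.nonempty_iff_nontrivial.1 ‹_›
  obtain ⟨r⟩ := exists_algHom_of_weaklyEtale (k := k) Γ(P, ⊤)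
  refine ⟨Spec.map (CommRingCat.ofHom r.toRingHom) ≫ P.isoSpec.inv, ?_⟩
  rw [Category.assoc, ← hf, ← Spec.map_comp, ← Spec.map_id]
  congr 1
  exact CommRingCat.hom_ext (RingHom.ext fun a ↦ r.commutes a)

theorem exists_geometric_lift {X : Scheme.{u}} (U : X.ProEt) (R : Sieve U)
    (hR : R ∈ Scheme.ProEt.topology X U) (ξ : Spec (CommRingCat.of k) ⟶ U.left) :
    ∃ (V : X.ProEt) (g : V ⟶ U) (ξ' : Spec (CommRingCat.of k) ⟶ V.left), R g ∧ ξ' ≫ g.left = ξ := by
  let p : Spec (CommRingCat.of k) := IsLocalRing.closedPoint k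
  obtain ⟨_, ⟨O', hO, rfl⟩, hpO, -⟩ :=
    U.left.isBasis_affineOpens.exists_subset_of_mem_open (Set.mem_univ (ξ p)) isOpen_univ
  let O : U.left.Opens := O'
  haveI : IsAffine O.toScheme := hO
  let h : overObj U O.ι ⟶ U := overHom U O.ι
  haveI : IsAffine (overObj U O.ι).left := hO
  haveI : Subsingleton (Spec (CommRingCat.of k)) := inferInstanceAs (Subsingleton (PrimeSpectrum k))
  let ζ₀ : Spec (CommRingCat.of k) ⟶ O.toScheme := IsOpenImmersion.lift O.ι ξ (by
    rw [Scheme.Opens.range_ι]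
    rintro _ ⟨q, rfl⟩
    rw [Subsingleton.elim q p]
    exact hpO)
  have hζ₀ : ζ₀ ≫ O.ι = ξ := IsOpenImmersion.lift_fac _ _ _
  let ζ : Spec (CommRingCat.of k) ⟶ (overObj U O.ι).left := ζ₀
  obtain ⟨ι, _, B, b, hb, hB, hcov, hR'⟩ :=
    exists_affine_refinement ((Scheme.ProEt.topology X).pullback_stable h hR)
  obtain ⟨i, y, hy⟩ := hcov (ζ p)
  haveI := hB i
  haveI : Nonempty ↥(pullback ζ (b i)) := by
    obtain ⟨z, -, -⟩ := Scheme.Pullback.exists_preimage_pullback (f := ζ) (g := b i) p y hy.symm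
    exact ⟨z⟩
  obtain ⟨s, hs⟩ := exists_section_of_weaklyEtale (pullback.fst ζ (b i))
  refine ⟨_, overHom (overObj U O.ι) (b i) ≫ h, s ≫ pullback.snd ζ (b i), hR' i, ?_⟩
  show (s ≫ pullback.snd ζ (b i)) ≫ b i ≫ O.ι = ξ
  rw [Category.assoc, ← Category.assoc (pullback.snd ζ (b i)), ← pullback.condition,
    Category.assoc, ← Category.assoc s, hs, Category.id_comp]
  exact hζ₀

end Groth.Agent.ProEtWC
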