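import Groth.Agent.Lib.ProEtWC.Products
import Groth.Agent.Lib.ProEtWC.Cont
import Mathlib.CategoryTheory.Functor.Flat
import Mathlib.CategoryTheory.Limits.Types.Filtered

/-!
Left Kan extensions of sheaves along base change preserve finite products.
-/

open CategoryTheory Limits AlgebraicGeometry Opposite

universe u

namespace Groth.Agent.ProEtWC

set_option backward.isDefEq.respectTransparency.types false
set_option linter.style.haveILetI false
set_option linter.unusedSectionVars false

variable {X Y : Scheme.{u}} (f : X ⟶ Y)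

theorem preservesFiniteProducts_lan (F : Sheaf (Scheme.ProEt.topology Y) (Type (u + 1))) :
    PreservesFiniteProducts ((ProEtS.bcP f).op.lan.obj F.obj) := by
  let L := (ProEtS.bcP f).op
  let G := L.lan.obj F.obj
  let η : F.obj ⟶ L ⋙ G := L.lanUnit.app F.obj
  haveI : RepresentablyFlat (ProEtS.bcP f) := flat_of_preservesFiniteLimits _
  have hG : ∀ W : X.ProEt, IsColimit ((Functor.LeftExtension.mk G η).coconeAt (op W)) := fun W ↦
    Functor.isPointwiseLeftKanExtensionLeftKanExtensionUnit L F.obj (op W)
  have hfil : ∀ W : X.ProEt, IsFiltered (CostructuredArrow L (op W)) := fun W ↦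
    IsFiltered.of_equivalence (structuredArrowOpEquivalence (ProEtS.bcP f) W)
  have heq : ∀ (W : X.ProEt) (K : CostructuredArrow L (op W)) (x : F.obj.obj K.left),
      ((Functor.LeftExtension.mk G η).coconeAt (op W)).ι.app K x = G.map K.hom (η.app K.left x) :=
    fun W K x ↦ rfl
  refine preservesFiniteProducts_of_bijective _ fun U ι _ V g hg hd hs ↦ ?_
  constructor
  · intro s s' hss
    haveI := hfil U
    obtain ⟨j, x, rfl⟩ := Types.jointly_surjective_of_isColimit (hG U) s
    obtain ⟨j', x', rfl⟩ := Types.jointly_surjective_of_isColimit (hG U) s'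
    let k := IsFiltered.max j j'
    obtain ⟨z, hz⟩ : ∃ z, ((Functor.LeftExtension.mk G η).coconeAt (op U)).ι.app k z =
        ((Functor.LeftExtension.mk G η).coconeAt (op U)).ι.app j x :=
      ⟨_, ConcreteCategory.congr_hom
        (((Functor.LeftExtension.mk G η).coconeAt (op U)).w (IsFiltered.leftToMax j j')) x⟩
    obtain ⟨z', hz'⟩ : ∃ z', ((Functor.LeftExtension.mk G η).coconeAt (op U)).ι.app k z' =
        ((Functor.LeftExtension.mk G η).coconeAt (op U)).ι.app j' x' :=
      ⟨_, ConcreteCategory.congr_hom
        (((Functor.LeftExtension.mk G η).coconeAt (op U)).w (IsFiltered.rightToMax j j')) x'⟩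
    change ((Functor.LeftExtension.mk G η).coconeAt (op U)).ι.app j x =
      ((Functor.LeftExtension.mk G η).coconeAt (op U)).ι.app j' x'
    rw [← hz, ← hz', heq, heq]
    have hloc : ∀ i, G.map (g i).op (G.map k.hom (η.app k.left z)) =
        G.map (g i).op (G.map k.hom (η.app k.left z')) := by
      intro i
      rw [← heq, ← heq, hz, hz']
      exact congrFun hss i
    let T := k.left.unop
    let a : U ⟶ (ProEtS.bcP f).obj T := k.hom.unop
    have hdata : ∀ i, ∃ (S : Y.ProEt) (b : V i ⟶ (ProEtS.bcP f).obj S) (h : S ⟶ T),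
        b ≫ (ProEtS.bcP f).map h = g i ≫ a ∧ F.obj.map h.op z = F.obj.map h.op z' := by
      intro i
      haveI := hfil (V i)
      let K : CostructuredArrow L (op (V i)) := CostructuredArrow.mk (k.hom ≫ (g i).op)
      have h0 : ((Functor.LeftExtension.mk G η).coconeAt (op (V i))).ι.app K z =
          ((Functor.LeftExtension.mk G η).coconeAt (op (V i))).ι.app K z' := by
        rw [heq, heq]
        show G.map (k.hom ≫ (g i).op) (η.app k.left z) = G.map (k.hom ≫ (g i).op) (η.app k.left z')
        simp only [Functor.map_comp_apply]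
        exact hloc i
      obtain ⟨M, e, he⟩ := (Types.FilteredColimit.isColimit_eq_iff' (hG (V i)) _ _).1 h0
      exact ⟨M.left.unop, M.hom.unop, e.left.unop,
        congrArg Quiver.Hom.unop (CostructuredArrow.w e), he⟩
    choose S b h hb hzz using hdata
    obtain ⟨hh, hhh⟩ := (bijective_hom S (sigmaPι S) (disjoint_sigmaPι S) (cover_sigmaPι S) T).2 h
    obtain ⟨aa, haa⟩ := (bijective_hom V g hd hs ((ProEtS.bcP f).obj (sigmaP S))).2
      fun i ↦ b i ≫ (ProEtS.bcP f).map (sigmaPι S i)
    have ha : aa ≫ (ProEtS.bcP f).map hh = a := by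
      refine (bijective_hom V g hd hs _).1 (funext fun i ↦ ?_)
      have h1 : g i ≫ aa = b i ≫ (ProEtS.bcP f).map (sigmaPι S i) := congrFun haa i
      have h2 : sigmaPι S i ≫ hh = h i := congrFun hhh i
      show g i ≫ aa ≫ _ = g i ≫ a
      rw [← Category.assoc, h1, Category.assoc, ← Functor.map_comp, h2, hb]
    have hx : F.obj.map hh.op z = F.obj.map hh.op z' := by
      refine (bijective_restrict S (sigmaPι S) (disjoint_sigmaPι S) (cover_sigmaPι S) F).1
        (funext fun i ↦ ?_)
      have h2 : sigmaPι S i ≫ hh = h i := congrFun hhh i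
      show F.obj.map (sigmaPι S i).op (F.obj.map hh.op z) =
        F.obj.map (sigmaPι S i).op (F.obj.map hh.op z')
      rw [← Functor.map_comp_apply, ← Functor.map_comp_apply, ← op_comp, h2]
      exact hzz i
    have hk : k.hom = L.map hh.op ≫ aa.op := by
      apply Quiver.Hom.unop_inj
      exact ha.symm
    rw [hk, Functor.map_comp_apply, Functor.map_comp_apply]
    congr 1
    have n1 := NatTrans.naturality_apply η hh.op z
    have n2 := NatTrans.naturality_apply η hh.op z'
    rw [hx] at n1
    exact n1.symm.trans n2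
  · intro s
    choose j x hjx using fun i ↦ Types.jointly_surjective_of_isColimit (hG (V i)) (s i)
    let S : ι → Y.ProEt := fun i ↦ (j i).left.unop
    let b : ∀ i, V i ⟶ (ProEtS.bcP f).obj (S i) := fun i ↦ (j i).hom.unop
    obtain ⟨aa, haa⟩ := (bijective_hom V g hd hs ((ProEtS.bcP f).obj (sigmaP S))).2
      fun i ↦ b i ≫ (ProEtS.bcP f).map (sigmaPι S i)
    obtain ⟨w, hw⟩ := (bijective_restrict S (sigmaPι S) (disjoint_sigmaPι S) (cover_sigmaPι S) F).2 x
    refine ⟨G.map aa.op (η.app (op (sigmaP S)) w), funext fun i ↦ ?_⟩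
    have h1 : g i ≫ aa = b i ≫ (ProEtS.bcP f).map (sigmaPι S i) := congrFun haa i
    show G.map (g i).op (G.map aa.op _) = _
    rw [← Functor.map_comp_apply, ← op_comp, h1, op_comp, Functor.map_comp_apply, ← hjx i, heq]
    refine congrArg (G.map (j i).hom) ?_
    have n1 := NatTrans.naturality_apply η (sigmaPι S i).op w
    rw [show F.obj.map (sigmaPι S i).op w = x i from congrFun hw i] at n1
    exact n1.symm

theorem lan_bijective_on_wc (F : Sheaf (Scheme.ProEt.topology Y) (Type (u + 1))) (W : X.ProEt)
    [IsAffine W.left] (hW : ProEtS.IsWC W) :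
    Function.Bijective
      ((toSheafify (Scheme.ProEt.topology X) ((ProEtS.bcP f).op.lan.obj F.obj)).app (op W)) :=
  haveI := preservesFiniteProducts_lan f F
  sheafify_bijective_on_wc _ W hW

end Groth.Agent.ProEtWC
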