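import Groth.Agent.Lib.ProEtWC.ClosedCounit
import Groth.Agent.Lib.ProEtWC.LanExact
import Groth.Agent.Lib.WLocal.Contractible
import Mathlib.CategoryTheory.Limits.Constructions.LimitsOfProductsAndEqualizers
import Mathlib.CategoryTheory.Limits.Shapes.ConcreteCategory

/-!
Affine objects all of whose closed points lie on a closed subscheme, and preservation of products
by the inverse image along a closed immersion.
-/

open CategoryTheory Limits AlgebraicGeometry Opposite Set Topology

universe u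

namespace Groth.Agent.ProEtWC

set_option backward.isDefEq.respectTransparency.types false
set_option linter.style.haveILetI false

variable {Z X : Scheme.{u}} (i : Z ⟶ X)

/-- An affine object whose points specialize to points over `i`. -/
def Near (V : X.ProEt) : Prop :=
  IsAffine V.left ∧ ∀ v : ↥V.left, ∃ z : ↥V.left, V.hom.base z ∈ range i.base ∧ v ⤳ z

variable [IsClosedImmersion i]

lemma exists_near (V : X.ProEt) [IsAffine V.left] :
    ∃ (W : X.ProEt) (g : W ⟶ V), Near i W ∧ QuasiCompact g.left ∧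
      ∀ v : ↥V.left, V.hom.base v ∈ range i.base → v ∈ range g.left.base := by
  let A := Γ(V.left, ⊤)
  let e : V.left ⟶ Spec A := V.left.isoSpec.hom
  let T : Set (PrimeSpectrum A) := (fun p ↦ (V.left.isoSpec.inv ≫ V.hom).base p) ⁻¹' range i.base
  have hT : IsClosed T :=
    i.isClosedEmbedding.isClosed_range.preimage (V.left.isoSpec.inv ≫ V.hom).continuous
  let I : Ideal A := PrimeSpectrum.vanishingIdeal T
  have hzl : PrimeSpectrum.zeroLocus (I : Set A) = T := by
    rw [PrimeSpectrum.zeroLocus_vanishingIdeal_eq_closure, hT.closure_eq]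
  let M : Submonoid A :=
    { carrier := {x | x - 1 ∈ I}
      one_mem' := by simp
      mul_mem' := fun {a b} ha hb ↦ by
        show a * b - 1 ∈ I
        rw [show a * b - 1 = a * (b - 1) + (a - 1) by ring]
        exact I.add_mem (I.mul_mem_left _ hb) ha }
  let B := Localization M
  let w₀ : Spec (CommRingCat.of B) ⟶ Spec A := Spec.map (CommRingCat.ofHom (algebraMap A B))
  haveI : WeaklyEtale w₀ := WEtSch4.weaklyEtale_SpecMap_iff.2
    (WEtaleH7.weaklyEtale_of_isIndEtale
      (WLocal.isIndEtale_of_isIndZariski (WLocal.isIndZariski_of_isLocalization M B)))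
  let w : Spec (CommRingCat.of B) ⟶ V.left := w₀ ≫ V.left.isoSpec.inv
  have hrange : range w₀.base = {p : PrimeSpectrum A | Disjoint (M : Set A) (p.asIdeal : Set A)} :=
    PrimeSpectrum.localization_comap_range B M
  have hTw : ∀ q ∈ T, ∃ b, w₀.base b = q := fun q hq ↦ by
    refine hrange.ge (disjoint_left.2 fun x hx hxq ↦ q.isPrime.ne_top ?_)
    rw [Ideal.eq_top_iff_one, show (1 : A) = x - (x - 1) by ring]
    exact q.asIdeal.sub_mem hxq ((PrimeSpectrum.mem_zeroLocus _ _).1 (hzl.ge hq) hx)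
  refine ⟨overObj V w, overHom V w, ⟨inferInstanceAs (IsAffine (Spec (CommRingCat.of B))), fun b ↦ ?_⟩,
    inferInstanceAs (QuasiCompact w), fun v hv ↦ ?_⟩
  · let p : PrimeSpectrum A := w₀.base b
    have hp : Disjoint (M : Set A) (p.asIdeal : Set A) := hrange.le ⟨b, rfl⟩
    obtain ⟨m, hm, hle⟩ := Ideal.exists_le_maximal (p.asIdeal ⊔ I) (by
      intro htop
      obtain ⟨a, ha, c, hc, hac⟩ := Submodule.mem_sup.1 ((Ideal.eq_top_iff_one _).1 htop)
      refine disjoint_left.1 hp (show a ∈ M from ?_) ha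
      show a - 1 ∈ I
      rw [show a - 1 = -c by rw [← hac]; ring]
      exact I.neg_mem hc)
    let q : PrimeSpectrum A := ⟨m, hm.isPrime⟩
    have hqT : q ∈ T := hzl.le ((PrimeSpectrum.mem_zeroLocus _ _).2 fun x hx ↦ hle (Ideal.mem_sup_right hx))
    obtain ⟨z, hz⟩ := hTw q hqT
    refine ⟨z, ?_, ?_⟩
    · show (w₀ ≫ V.left.isoSpec.inv ≫ V.hom).base z ∈ range i.base
      have : (V.left.isoSpec.inv ≫ V.hom).base (w₀.base z) ∈ range i.base := by
        rw [hz]
        exact hqT
      exact this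
    · have hemb := PrimeSpectrum.localization_comap_isEmbedding B M
      refine hemb.isInducing.specializes_iff.1 ?_
      show p ⤳ w₀.base z
      rw [hz]
      exact (PrimeSpectrum.le_iff_specializes p q).1 (le_sup_left.trans hle)
  · have hq : e.base v ∈ T := by
      show (V.left.isoSpec.inv ≫ V.hom).base (e.base v) ∈ range i.base
      have : (e ≫ V.left.isoSpec.inv ≫ V.hom).base v ∈ range i.base := by
        simpa [e] using hv
      exact this
    obtain ⟨b, hb⟩ := hTw _ hq
    refine ⟨b, ?_⟩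
    show V.left.isoSpec.inv.base (w₀.base b) = v
    rw [hb]
    show (V.left.isoSpec.hom ≫ V.left.isoSpec.inv).base v = v
    rw [Iso.hom_inv_id]
    rfl

lemma near_cover {W : X.ProEt} (hW : Near i W) {R : Sieve W}
    (hR : R ∈ Scheme.ProEt.topology X W) :
    ∃ (κ : Type u) (Y : κ → X.ProEt) (g : ∀ k, Y k ⟶ W),
      Sieve.generate (Presieve.ofArrows Y g) ∈ Scheme.ProEt.topology X W ∧
        ∀ k, Near i (Y k) ∧ R.arrows (g k) := by
  haveI := hW.1
  obtain ⟨κ, _, B, b, hb, hB, hcov, hRb⟩ := exists_affine_refinement hR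
  haveI := hb
  haveI := hB
  choose Y g hY hg hrange using fun k ↦
    haveI : IsAffine (overObj W (b k)).left := hB k
    exists_near i (overObj W (b k))
  refine ⟨κ, Y, fun k ↦ g k ≫ overHom W (b k), ?_, fun k ↦ ⟨hY k, R.downward_closed (hRb k) _⟩⟩
  have hjs : ∀ x : W.left, ∃ k, ∃ y : (Y k).left, (g k ≫ overHom W (b k)).left y = x := by
    intro x
    obtain ⟨z, hz, hxz⟩ := hW.2 x
    obtain ⟨k, t, rfl⟩ := hcov z
    obtain ⟨y, hy⟩ := hrange k t hz
    haveI := weaklyEtale_left (g k ≫ overHom W (b k))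
    have hy' : (g k ≫ overHom W (b k)).left.base y = b k t := by
      rw [← hy]
      rfl
    obtain ⟨y', -, hy''⟩ := Flat.generalizingMap (g k ≫ overHom W (b k)).left (hy' ▸ hxz)
    exact ⟨k, y', hy''⟩
  refine cover_mem _ _ ?_ hjs
  let 𝒰 := Scheme.Cover.mkOfCovers (P := @WeaklyEtale) κ
    (fun k ↦ (Y k).left) (fun k ↦ (g k ≫ overHom W (b k)).left) hjs fun k ↦ weaklyEtale_left _
  haveI : ∀ k, QuasiCompact (𝒰.f k) := fun k ↦ by
    haveI := hg k
    haveI := (hY k).1
    haveI : IsAffine W.left := hW.1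
    exact inferInstanceAs (QuasiCompact (show (Y k).left ⟶ W.left from (g k).left ≫ b k))
  haveI : Finite 𝒰.I₀ := inferInstanceAs (Finite κ)
  exact QuasiCompactCover.of_finite (𝒰 := 𝒰)

lemma eq_zero_of_cover (A : ProEtS.AbP X) {W : X.ProEt} {κ : Type u} {Y : κ → X.ProEt}
    {g : ∀ k, Y k ⟶ W} (h : Sieve.generate (Presieve.ofArrows Y g) ∈ Scheme.ProEt.topology X W)
    {s : A.obj.obj (op W)} (hs : ∀ k, A.obj.map (g k).op s = 0) : s = 0 := by
  have hP : Presieve.IsSheaf (Scheme.ProEt.topology X)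
      (A.obj ⋙ CategoryTheory.forget AddCommGrpCat.{u + 1}) :=
    (isSheaf_iff_isSheaf_of_type _ _).1 ((sheafCompose _ (CategoryTheory.forget _)).obj A).property
  refine ((Presieve.isSheafFor_iff_generate _).2 (hP _ h)).isSeparatedFor.ext ?_
  rintro Y f ⟨k⟩
  show A.obj.map (g k).op s = A.obj.map (g k).op 0
  rw [map_zero, hs k]

omit [IsClosedImmersion i] in
lemma exists_isCompact_open_superset {B V : Scheme.{u}} [CompactSpace B] (c : B ⟶ V) :
    ∃ O : V.Opens, IsCompact (O : Set V) ∧ range c ⊆ O := by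
  obtain ⟨F, hF⟩ := (isCompact_range c.continuous).elim_finite_subcover
    (fun O : V.affineOpens ↦ ((O.1 : V.Opens) : Set V))
    (fun O ↦ O.1.isOpen) fun x _ ↦ by
      obtain ⟨O, hO⟩ := TopologicalSpace.Opens.mem_iSup.1
        ((iSup_affineOpens_eq_top V).ge (TopologicalSpace.Opens.mem_top x))
      exact mem_iUnion.2 ⟨O, hO⟩
  refine ⟨⟨_, isOpen_biUnion fun O (_ : O ∈ F) ↦ O.1.isOpen⟩, ?_, hF⟩
  exact F.finite_toSet.isCompact_biUnion fun O _ ↦ O.2.isCompact

variable [ProEtS.PCont i]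

theorem near_eq_zero (A : ProEtS.AbP X) (hZ : IsZero ((ProEtS.pullP i).obj A)) {W : X.ProEt}
    (hW : Near i W) (s : A.obj.obj (op W)) : s = 0 := by
  let J := Scheme.ProEt.topology Z
  let L := (ProEtS.bcP i).op
  let Q := L.lan.obj A.obj
  let η : A.obj ⟶ L ⋙ Q := L.lanUnit.app A.obj
  let S := (presheafToSheaf J AddCommGrpCat.{u + 1}).obj Q
  have hS : IsZero S :=
    hZ.of_iso ((Functor.sheafPullbackConstruction.sheafPullbackIso (ProEtS.bcP i) AddCommGrpCat.{u + 1}
      (Scheme.ProEt.topology X) J).app A).symm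
  have hS' : ∀ (T : Z.ProEt) (x : S.obj.obj (op T)), x = 0 := fun T x ↦
    congrArg (fun φ : S ⟶ S ↦ (φ.hom.app (op T)).hom x) ((IsZero.iff_id_eq_zero _).1 hS)
  haveI : RepresentablyFlat (ProEtS.bcP i) := flat_of_preservesFiniteLimits _
  haveI hfil : ∀ W : Z.ProEt, IsFiltered (CostructuredArrow L (op W)) := fun W ↦
    IsFiltered.of_equivalence (structuredArrowOpEquivalence (ProEtS.bcP i) W)
  haveI : PreservesFilteredColimitsOfSize.{u + 1, u + 1} (CategoryTheory.forget AddCommGrpCat.{u + 1}) :=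
    inferInstance
  haveI : PreservesFilteredColimitsOfSize.{u, u + 1} (CategoryTheory.forget AddCommGrpCat.{u + 1}) :=
    preservesFilteredColimitsOfSize_of_univLE.{u + 1, u + 1} _
  haveI : ∀ W : Z.ProEt, PreservesColimitsOfShape (CostructuredArrow L (op W))
      (CategoryTheory.forget AddCommGrpCat.{u + 1}) := fun W ↦
    PreservesFilteredColimitsOfSize.preserves_filtered_colimits _
  haveI := hW.1
  let T := (ProEtS.bcP i).obj W
  let pT : T.left ⟶ W.left := pullback.fst _ _
  haveI : IsAffineHom pT := MorphismProperty.pullback_fst (P := @IsAffineHom) _ _ inferInstance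
  haveI : IsAffine T.left := isAffine_of_isAffineHom pT
  have hR : Presheaf.equalizerSieve (F := Q) (η.app (op W) s) 0 ∈ J T :=
    Presheaf.equalizerSieve_mem J (toSheafify J Q) _ _ ((hS' _ _).trans (hS' _ _).symm)
  obtain ⟨κ, _, B, b, hb, hB, hcov, hRb⟩ := exists_affine_refinement hR
  haveI := hb
  haveI := hB
  let RW : Sieve W := ⟨fun V' h ↦ A.obj.map h.op s = 0, fun {Y Z'} f hf g ↦ by
    show A.obj.map (g ≫ f).op s = 0
    rw [op_comp, Functor.map_comp_apply, hf, map_zero]⟩
  have hloc : ∀ l, ∃ (V' : X.ProEt) (h : V' ⟶ W) (a : overObj T (b l) ⟶ (ProEtS.bcP i).obj V'),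
      a ≫ (ProEtS.bcP i).map h = overHom T (b l) ∧ A.obj.map h.op s = 0 := fun l ↦ by
    let K : CostructuredArrow L (op (overObj T (b l))) :=
      CostructuredArrow.mk (show L.obj (op W) ⟶ _ from (overHom T (b l)).op)
    have h0 : ((Functor.LeftExtension.mk Q η).coconeAt (op (overObj T (b l)))).ι.app K s =
        ((Functor.LeftExtension.mk Q η).coconeAt (op (overObj T (b l)))).ι.app K (0 : A.obj.obj _) := by
      show Q.map (overHom T (b l)).op (η.app (op W) s) =
        Q.map (overHom T (b l)).op (η.app (op W) 0)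
      rw [map_zero]
      exact hRb l
    obtain ⟨M, e₁, e₂, he⟩ := Concrete.isColimit_exists_of_rep_eq _
      (Functor.isPointwiseLeftKanExtensionLeftKanExtensionUnit L A.obj (op (overObj T (b l)))) _ _ h0
    exact ⟨M.left.unop, e₁.left.unop, M.hom.unop,
      congrArg Quiver.Hom.unop (CostructuredArrow.w e₁),
      he.trans (map_zero (A.obj.map e₂.left).hom)⟩
  choose V' h a ha hs using hloc
  let c : ∀ l, B l ⟶ (V' l).left := fun l ↦ (a l).left ≫ pullback.fst _ _
  have hch : ∀ l, c l ≫ (h l).left = b l ≫ pT := fun l ↦ by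
    have e : (a l).left ≫ ((ProEtS.bcP i).map (h l)).left = b l := congrArg (fun q ↦ q.left) (ha l)
    show ((a l).left ≫ pullback.fst _ _) ≫ (h l).left = b l ≫ pT
    refine Eq.trans ?_ (congrArg (· ≫ pT) e)
    erw [Category.assoc, Category.assoc]
    congr 1
    exact (pullback.lift_fst _ _ _).symm
  choose O hO hcO using fun l ↦ exists_isCompact_open_superset (c l)
  haveI : ∀ l, WeaklyEtale ((O l).ι ≫ (h l).left) := fun l ↦ by
    haveI := weaklyEtale_left (h l)
    infer_instance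
  have hjs : ∀ x : W.left, ∃ l, ∃ y : (O l).toScheme, ((O l).ι ≫ (h l).left) y = x := by
    intro x
    obtain ⟨z, ⟨z', hz'⟩, hxz⟩ := hW.2 x
    obtain ⟨t, ht, -⟩ := Scheme.Pullback.exists_preimage_pullback z z' hz'.symm
    obtain ⟨l, w, rfl⟩ := hcov t
    have hw : ((O l).ι ≫ (h l).left) (⟨c l w, hcO l ⟨w, rfl⟩⟩ : (O l).toScheme) = z := by
      show (h l).left (c l w) = z
      rw [← ht]
      exact congrArg (fun q : B l ⟶ W.left ↦ q w) (hch l)
    obtain ⟨y, -, hy⟩ := Flat.generalizingMap ((O l).ι ≫ (h l).left) (hw ▸ hxz)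
    exact ⟨l, y, hy⟩
  refine eq_zero_of_cover A (κ := κ) (Y := fun l ↦ overObj W ((O l).ι ≫ (h l).left))
    (g := fun l ↦ overHom W ((O l).ι ≫ (h l).left)) (cover_mem _ _ ?_ hjs) fun l ↦ ?_
  · let 𝒰 := Scheme.Cover.mkOfCovers (P := @WeaklyEtale) κ
      (fun l ↦ (O l).toScheme) (fun l ↦ (O l).ι ≫ (h l).left) hjs inferInstance
    haveI : ∀ l, QuasiCompact (𝒰.f l) := fun l ↦ by
      haveI : CompactSpace ↥((O l).toScheme) := isCompact_iff_compactSpace.1 (hO l)
      exact inferInstanceAs (QuasiCompact ((O l).ι ≫ (h l).left))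
    haveI : Finite 𝒰.I₀ := inferInstanceAs (Finite κ)
    exact QuasiCompactCover.of_finite (𝒰 := 𝒰)
  · exact arrows_of_comm (R := RW) (h l) (hs l) (w := (O l).ι ≫ (h l).left) (O l).ι rfl

theorem isZero_pull_of_near (A : ProEtS.AbP X)
    (h : ∀ W : X.ProEt, Near i W → ∀ s : A.obj.obj (op W), s = 0) :
    IsZero ((ProEtS.pullP i).obj A) := by
  rw [IsZero.iff_id_eq_zero]
  apply ((ProEtS.pullPushAdjP i).homEquiv _ _).injective
  rw [Adjunction.homEquiv_unit, Adjunction.homEquiv_unit, Functor.map_zero, comp_zero]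
  suffices h' : ∀ ψ : A ⟶ (ProEtS.pushP i).obj ((ProEtS.pullP i).obj A), ψ = 0 from h' _
  intro ψ
  ext V x
  show ψ.hom.app V x = 0
  obtain ⟨ι, U, g, hg, hU⟩ := exists_affine_wc_cover V.unop
  refine eq_zero_of_cover _ hg fun k ↦ ?_
  rw [← NatTrans.naturality_apply ψ.hom (g k).op x]
  change ψ.hom.app (op (U k)) (A.obj.map (g k).op x) = 0
  generalize A.obj.map (g k).op x = y
  haveI := (hU k).1
  obtain ⟨W, w, hW, hw, hrange⟩ := exists_near i (U k)
  let H := (ProEtS.pullP i).obj A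
  have h1 : H.obj.map ((ProEtS.bcP i).map w).op (ψ.hom.app (op (U k)) y) = 0 := by
    show ((ProEtS.pushP i).obj H).obj.map w.op (ψ.hom.app (op (U k)) y) = 0
    rw [← NatTrans.naturality_apply ψ.hom w.op y, h W hW (A.obj.map w.op y), map_zero]
  haveI : Surjective ((ProEtS.bcP i).map w).left := ⟨fun t ↦ by
    let p₁ : ((ProEtS.bcP i).obj (U k)).left ⟶ (U k).left := pullback.fst _ _
    let p₂ : ((ProEtS.bcP i).obj (U k)).left ⟶ Z := pullback.snd _ _
    have hc : p₁ ≫ (U k).hom = p₂ ≫ i := pullback.condition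
    obtain ⟨b, hb⟩ := hrange (p₁ t) ⟨p₂ t, (congrArg (fun q : _ ⟶ X ↦ q t) hc).symm⟩
    obtain ⟨t', ht', -⟩ := Scheme.Pullback.exists_preimage_pullback (f := p₁) (g := w.left) t b hb.symm
    exact ⟨(isPullback_bcP_map i w).isoPullback.inv t', (congrArg (fun q : pullback p₁ w.left ⟶ _ ↦ q t')
      (isPullback_bcP_map i w).isoPullback_inv_fst).trans ht'⟩⟩
  haveI : QuasiCompact ((ProEtS.bcP i).map w).left :=
    MorphismProperty.of_isPullback (P := @QuasiCompact) (isPullback_bcP_map i w).flip hw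
  exact eq_zero_of_cover _ (κ := PUnit) (Y := fun _ ↦ (ProEtS.bcP i).obj W)
    (g := fun _ ↦ (ProEtS.bcP i).map w)
    (by rw [Presieve.ofArrows_pUnit]; exact singleton_affine_mem _) fun _ ↦ h1

end Groth.Agent.ProEtWC
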