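import Groth.Agent.Lib.ProEtWC.Glue
import Mathlib.CategoryTheory.Sites.LocallyInjective
import Mathlib.CategoryTheory.Limits.Preserves.Shapes.Products
import Mathlib.CategoryTheory.Limits.Shapes.Opposites.Products

/-!
Product preserving presheaves on the pro-étale site and sheafification on weakly contractible objects.
-/

open CategoryTheory Limits AlgebraicGeometry Opposite

universe u

namespace Groth.Agent.ProEtWC

set_option backward.isDefEq.respectTransparency.types false
set_option linter.style.haveILetI false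
set_option linter.unusedSectionVars false

variable {X : Scheme.{u}}

/-- Disjoint union of objects. -/
noncomputable abbrev sigmaP {ι : Type u} (V : ι → X.ProEt) : X.ProEt :=
  haveI : WeaklyEtale (Sigma.desc fun i ↦ (V i).hom) :=
    IsZariskiLocalAtSource.sigmaDesc fun i ↦ (V i).prop
  Scheme.ProEt.mk (Sigma.desc fun i ↦ (V i).hom)

/-- The inclusion of a summand. -/
noncomputable abbrev sigmaPι {ι : Type u} (V : ι → X.ProEt) (i : ι) : V i ⟶ sigmaP V :=
  MorphismProperty.Over.homMk (Sigma.ι (fun i ↦ (V i).left) i) (Sigma.ι_desc _ _)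

instance {ι : Type u} (V : ι → X.ProEt) (i : ι) : IsOpenImmersion (sigmaPι V i).left :=
  inferInstanceAs (IsOpenImmersion (Sigma.ι (fun i ↦ (V i).left) i))

lemma disjoint_sigmaPι {ι : Type u} (V : ι → X.ProEt) :
    Pairwise fun i j ↦ Disjoint (Set.range (sigmaPι V i).left) (Set.range (sigmaPι V j).left) :=
  fun i j h ↦ TopologicalSpace.Opens.coe_disjoint.2
    (disjoint_opensRange_sigmaι (fun i ↦ (V i).left) i j h)

lemma cover_sigmaPι {ι : Type u} (V : ι → X.ProEt) (x : (sigmaP V).left) :
    ∃ i, x ∈ Set.range (sigmaPι V i).left := by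
  obtain ⟨i, y, hy⟩ := (sigmaOpenCover fun i ↦ (V i).left).exists_eq x
  exact ⟨i, y, hy⟩

section

variable {U : X.ProEt} {ι : Type u} (V : ι → X.ProEt) (g : ∀ i, V i ⟶ U)
  [∀ i, IsOpenImmersion (g i).left]
  (hd : Pairwise fun i j ↦ Disjoint (Set.range (g i).left) (Set.range (g j).left))
  (hs : ∀ x : U.left, ∃ i, x ∈ Set.range (g i).left)

include hd hs in
lemma bijective_hom (T : X.ProEt) :
    Function.Bijective fun (a : U ⟶ T) (i : ι) ↦ g i ≫ a := by
  have h := bijective_restrict V g hd hs ((Scheme.ProEt.topology X).uliftYoneda.{u + 1}.obj T)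
  constructor
  · intro a a' haa
    exact congrArg ULift.down (h.1 (a₁ := ⟨a⟩) (a₂ := ⟨a'⟩) (funext fun i ↦
      ULift.ext _ _ (congrFun haa i)))
  · intro b
    obtain ⟨a, ha⟩ := h.2 fun i ↦ ⟨b i⟩
    exact ⟨a.down, funext fun i ↦ congrArg ULift.down (congrFun ha i)⟩

/-- A disjoint union is a coproduct. -/
noncomputable def isColimitCofan : IsColimit (Cofan.mk U g) :=
  haveI := hd
  mkCofanColimit _ (fun c ↦ ((bijective_hom V g hd hs c.pt).2 c.inj).choose)
    (fun c i ↦ congrFun ((bijective_hom V g hd hs c.pt).2 c.inj).choose_spec i)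
    fun c a ha ↦ (bijective_hom V g hd hs c.pt).1 ((funext ha).trans
      ((bijective_hom V g hd hs c.pt).2 c.inj).choose_spec.symm)

include hd hs in
/-- A product preserving presheaf sends finite disjoint unions to products. -/
lemma bijective_of_preservesFiniteProducts [Finite ι] (F : X.ProEtᵒᵖ ⥤ Type (u + 1))
    [PreservesFiniteProducts F] :
    Function.Bijective fun (t : F.obj (op U)) (i : ι) ↦ F.map (g i).op t := by
  have hl := (Types.isLimit_iff _).1
    ⟨isLimitFanMkObjOfIsLimit F _ _ (Cofan.IsColimit.op (isColimitCofan V g hd hs))⟩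
  constructor
  · intro t t' htt
    refine (hl (fun j ↦ F.map (g j.as).op t') ?_).unique (fun j ↦ congrFun htt j.as) fun _ ↦ rfl
    rintro ⟨i⟩ ⟨j⟩ ⟨⟨h⟩⟩
    obtain rfl : i = j := h
    simp
  · intro x
    obtain ⟨t, ht, -⟩ := hl (fun j ↦ x j.as) (by
      rintro ⟨i⟩ ⟨j⟩ ⟨⟨h⟩⟩
      obtain rfl : i = j := h
      simp)
    exact ⟨t, funext fun i ↦ ht ⟨i⟩⟩

end

lemma preservesFiniteProducts_of_bijective (F : X.ProEtᵒᵖ ⥤ Type (u + 1))
    (h : ∀ (U : X.ProEt) (ι : Type u) (_ : Finite ι) (V : ι → X.ProEt) (g : ∀ i, V i ⟶ U),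
      (∀ i, IsOpenImmersion (g i).left) →
      (Pairwise fun i j ↦ Disjoint (Set.range (g i).left) (Set.range (g j).left)) →
      (∀ x : U.left, ∃ i, x ∈ Set.range (g i).left) →
      Function.Bijective fun (t : F.obj (op U)) (i : ι) ↦ F.map (g i).op t) :
    PreservesFiniteProducts F := by
  refine ⟨fun n ↦ ?_⟩
  suffices PreservesLimitsOfShape (Discrete (ULift.{u} (Fin n))) F from
    preservesLimitsOfShape_of_equiv (Discrete.equivalence Equiv.ulift) F
  refine ⟨fun {K} ↦ ?_⟩
  let V : ULift.{u} (Fin n) → X.ProEt := fun i ↦ (K.obj ⟨i⟩).unop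
  suffices PreservesLimit (Discrete.functor fun i ↦ op (V i)) F from
    preservesLimit_of_iso_diagram F (Discrete.natIso fun i ↦ Iso.refl _ :
      Discrete.functor (fun i ↦ op (V i)) ≅ K)
  refine preservesLimit_of_preserves_limit_cone
    (Cofan.IsColimit.op (isColimitCofan V (sigmaPι V) (disjoint_sigmaPι V) (cover_sigmaPι V))) ?_
  refine (isLimitMapConeFanMkEquiv F _ _).symm ?_
  have hb := h (sigmaP V) _ inferInstance V (sigmaPι V) (fun _ ↦ inferInstance) (disjoint_sigmaPι V)
    (cover_sigmaPι V)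
  refine ((Types.isLimit_iff _).2 fun s _ ↦ ?_).some
  obtain ⟨t, ht⟩ := hb.2 fun i ↦ s ⟨i⟩
  exact ⟨t, fun j ↦ congrFun ht j.as,
    fun t' ht' ↦ hb.1 ((funext fun i ↦ ht' ⟨i⟩).trans ht.symm)⟩

/-- Sheafification does not change product preserving presheaves on affine weakly contractibles. -/
theorem sheafify_bijective_on_wc (F : X.ProEtᵒᵖ ⥤ Type (u + 1)) [PreservesFiniteProducts F]
    (W : X.ProEt) [IsAffine W.left] (hW : ProEtS.IsWC W) :
    Function.Bijective ((toSheafify (Scheme.ProEt.topology X) F).app (op W)) := by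
  have hr := (isWC_iff_refinedByClopen W).1 hW
  let η := toSheafify (Scheme.ProEt.topology X) F
  constructor
  · intro a b hab
    obtain ⟨n, O, -, hd, hu, hO⟩ := hr _ (Presheaf.equalizerSieve_mem (Scheme.ProEt.topology X) η a b hab)
    haveI : ∀ k : ULift.{u} (Fin n), IsOpenImmersion (overHom W (O k.down).ι).left :=
      fun k ↦ inferInstanceAs (IsOpenImmersion (O k.down).ι)
    refine (bijective_of_preservesFiniteProducts (ι := ULift.{u} (Fin n))
      (fun k ↦ overObj W (O k.down).ι) (fun k ↦ overHom W (O k.down).ι) ?_ ?_ F).1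
      (funext fun k ↦ hO k.down)
    · intro i j hij
      change Disjoint (Set.range (O i.down).ι) (Set.range (O j.down).ι)
      rw [Scheme.Opens.range_ι, Scheme.Opens.range_ι]
      exact hd fun h ↦ hij (ULift.ext _ _ h)
    · intro x
      obtain ⟨k, hk⟩ := Set.mem_iUnion.1 (hu.ge (Set.mem_univ x))
      exact ⟨⟨k⟩, (Scheme.Opens.range_ι _).ge hk⟩
  · intro s
    obtain ⟨n, O, -, hd, hu, hO⟩ := hr _ (Presheaf.imageSieve_mem (Scheme.ProEt.topology X) η s)
    let V : ULift.{u} (Fin n) → X.ProEt := fun k ↦ overObj W (O k.down).ι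
    let g : ∀ k, V k ⟶ W := fun k ↦ overHom W (O k.down).ι
    haveI : ∀ k, IsOpenImmersion (g k).left := fun k ↦ inferInstanceAs (IsOpenImmersion (O k.down).ι)
    have hd' : Pairwise fun i j ↦ Disjoint (Set.range (g i).left) (Set.range (g j).left) := by
      intro i j hij
      change Disjoint (Set.range (O i.down).ι) (Set.range (O j.down).ι)
      rw [Scheme.Opens.range_ι, Scheme.Opens.range_ι]
      exact hd fun h ↦ hij (ULift.ext _ _ h)
    have hs : ∀ x : W.left, ∃ i, x ∈ Set.range (g i).left := fun x ↦ by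
      obtain ⟨k, hk⟩ := Set.mem_iUnion.1 (hu.ge (Set.mem_univ x))
      exact ⟨⟨k⟩, (Scheme.Opens.range_ι _).ge hk⟩
    choose t ht using hO
    obtain ⟨τ, hτ⟩ := (bijective_of_preservesFiniteProducts V g hd' hs F).2 fun k ↦ t k.down
    refine ⟨τ, (bijective_restrict V g hd' hs
      ((presheafToSheaf (Scheme.ProEt.topology X) _).obj F)).1 (funext fun k ↦ ?_)⟩
    show (sheafify (Scheme.ProEt.topology X) F).map (g k).op (η.app _ τ) =
      (sheafify (Scheme.ProEt.topology X) F).map (g k).op s
    rw [← NatTrans.naturality_apply η, show F.map (g k).op τ = t k.down from congrFun hτ k]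
    exact ht k.down

end Groth.Agent.ProEtWC
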