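import Groth.Agent.Lib.ProEtWC.Cover
import Groth.Agent.Lib.WLocal.FiniteContractible
import Mathlib.AlgebraicGeometry.Morphisms.Finite
import Mathlib.AlgebraicGeometry.Morphisms.FinitePresentation
import Mathlib.AlgebraicGeometry.Morphisms.ClosedImmersion
import Mathlib.CategoryTheory.Sites.EpiMono
import Mathlib.CategoryTheory.Abelian.Exact
import Mathlib.Algebra.Homology.ShortComplex.ExactFunctor

/-!
Exactness of direct images that preserve affine weakly contractible objects.
-/

open CategoryTheory Limits AlgebraicGeometry Opposite Set Topology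

universe u

namespace Groth.Agent.ProEtWC

set_option backward.isDefEq.respectTransparency.types false
set_option linter.style.haveILetI false

lemma surjective_app_of_epi {X : Scheme.{u}} {W : X.ProEt} (hW : ProEtS.IsWC W) {F G : ProEtS.AbP X}
    (φ : F ⟶ G) [Epi φ] : Function.Surjective (φ.hom.app (op W)) := by
  haveI : Sheaf.IsLocallySurjective φ := (Sheaf.isLocallySurjective_iff_epi' _ φ).2 inferInstance
  let φ' := (sheafCompose (Scheme.ProEt.topology X) (CategoryTheory.forget AddCommGrpCat.{u + 1})).map φ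
  haveI : Sheaf.IsLocallySurjective φ' :=
    ⟨fun {U} s ↦ Presheaf.imageSieve_mem (Scheme.ProEt.topology X) φ.hom s⟩
  exact hW _ _ φ' ((Sheaf.isLocallySurjective_iff_epi φ').1 inferInstance)

lemma pushP_exact {Z X : Scheme.{u}} (f : Z ⟶ X) [ProEtS.PCont f]
    (h : ∀ V : X.ProEt, IsAffine V.left → EtPBC.IsWContractible Γ(V.left, ⊤) →
      ProEtS.IsWC ((ProEtS.bcP f).obj V)) :
    PreservesFiniteLimits (ProEtS.pushP f) ∧ PreservesFiniteColimits (ProEtS.pushP f) := by
  haveI hr : (ProEtS.pushP f).IsRightAdjoint := (ProEtS.pullPushAdjP f).isRightAdjoint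
  have hlim : PreservesFiniteLimits (ProEtS.pushP f) := inferInstance
  haveI : (ProEtS.pushP f).PreservesEpimorphisms := ⟨fun {F G} φ _ ↦ by
    refine (Sheaf.isLocallySurjective_iff_epi' _ _).1 ⟨fun {U} s ↦ ?_⟩
    obtain ⟨ι, V, g, hg, hV⟩ := exists_affine_wc_cover U
    refine GrothendieckTopology.superset_covering _ ?_ hg
    rw [Sieve.generate_le_iff, Presieve.ofArrows_le_iff]
    intro i
    obtain ⟨t, ht⟩ := surjective_app_of_epi (h (V i) (hV i).1 (hV i).2) φ
      (((ProEtS.pushP f).obj G).obj.map (g i).op s)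
    exact ⟨t, ht⟩⟩
  haveI : (ProEtS.pushP f).PreservesHomology := Functor.preservesHomology_of_preservesEpis_and_kernels _
  exact ⟨hlim, Functor.preservesFiniteColimits_of_preservesHomology _⟩

lemma isWC_bcP_of_finite {Z X : Scheme.{u}} (f : Z ⟶ X) [IsFinite f] [LocallyOfFinitePresentation f]
    (V : X.ProEt) [IsAffine V.left] (hV : EtPBC.IsWContractible Γ(V.left, ⊤)) :
    ProEtS.IsWC ((ProEtS.bcP f).obj V) := by
  let p : ((ProEtS.bcP f).obj V).left ⟶ V.left := pullback.fst V.hom f
  haveI : IsFinite p := MorphismProperty.pullback_fst (P := @IsFinite) _ _ ‹IsFinite f›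
  haveI : LocallyOfFinitePresentation p :=
    MorphismProperty.pullback_fst (P := @LocallyOfFinitePresentation) _ _ ‹LocallyOfFinitePresentation f›
  haveI : IsAffine ((ProEtS.bcP f).obj V).left := isAffine_of_isAffineHom p
  letI : Algebra Γ(V.left, ⊤) Γ(((ProEtS.bcP f).obj V).left, ⊤) := p.appTop.hom.toAlgebra
  haveI : Module.Finite Γ(V.left, ⊤) Γ(((ProEtS.bcP f).obj V).left, ⊤) :=
    IsFinite.finite_app p ⊤ (isAffineOpen_top _)
  haveI : Algebra.FinitePresentation Γ(V.left, ⊤) Γ(((ProEtS.bcP f).obj V).left, ⊤) :=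
    HasRingHomProperty.appTop @LocallyOfFinitePresentation p inferInstance
  exact (isWC_iff_hasSections _).2 ((isWContractible_iff_hasSections _).1
    (WLocal.isWContractible_of_finite hV))

lemma isWContractible_of_surjective {A B : Type u} [CommRing A] [CommRing B] [Algebra A B]
    (hsurj : Function.Surjective (algebraMap A B))
    (hc : IsCompact (range (PrimeSpectrum.comap (algebraMap A B)))ᶜ)
    (h : EtPBC.IsWContractible A) : EtPBC.IsWContractible B := by
  haveI : Module.Finite A B := Module.Finite.of_surjective (Algebra.linearMap A B) hsurj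
  obtain ⟨hW, hED, hsh⟩ := (WLocal.isWContractible_iff A).1 h
  have hemb := PrimeSpectrum.isClosedEmbedding_comap_of_surjective B (algebraMap A B) hsurj
  have hB : ProEtW.IsWLocal (PrimeSpectrum B) :=
    WLocal.isWLocal_of_homeomorph hemb.isEmbedding.toHomeomorph
      (WLocal.isWLocal_of_isClosed hW hemb.isClosed_range)
  let Xc := ProEtW.closedPoints (PrimeSpectrum A)
  obtain ⟨_, _, _⟩ := WLocal.isProfinite_closedPoints hW
  haveI : ExtremallyDisconnected Xc := extremallyDisconnected_of_homeo (WLocal.closedPointsEquiv hW).symm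
  have hclopen : IsClopen ((Subtype.val : Xc → _) ⁻¹' range (PrimeSpectrum.comap (algebraMap A B))) := by
    refine ⟨hemb.isClosed_range.preimage continuous_subtype_val, ?_⟩
    rw [← isClosed_compl_iff, ← Set.preimage_compl]
    have hcl : IsClosed Xc := hW.2.1
    exact (hcl.isClosedEmbedding_subtypeVal.isCompact_preimage hc).isClosed
  let C : Set Xc := (Subtype.val : Xc → _) ⁻¹' range (PrimeSpectrum.comap (algebraMap A B))
  haveI : ExtremallyDisconnected C := WLocal.extremallyDisconnected_of_openMap Subtype.val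
    continuous_subtype_val hclopen.isOpen.isOpenMap_subtype_val
    fun _ ↦ ⟨univ, isOpen_univ, trivial, Subtype.val_injective.injOn⟩
  have hcl : ∀ y : PrimeSpectrum B, IsClosed ({y} : Set (PrimeSpectrum B)) ↔
      PrimeSpectrum.comap (algebraMap A B) y ∈ Xc := fun y ↦ by
    rw [hemb.isClosed_iff_image_isClosed, image_singleton]
    rfl
  let φ : ProEtW.closedPoints (PrimeSpectrum B) → C := fun y ↦
    ⟨⟨PrimeSpectrum.comap (algebraMap A B) y.1, (hcl y.1).1 y.2⟩, mem_range_self y.1⟩
  have hφ : Function.Bijective φ := by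
    constructor
    · intro y y' hy
      exact Subtype.ext (hemb.injective (congrArg (fun c : C ↦ c.1.1) hy))
    · rintro ⟨⟨x, hx⟩, hy⟩
      obtain ⟨y, hy'⟩ := id hy
      exact ⟨⟨y, (hcl y).2 (hy'.symm ▸ hx)⟩, Subtype.ext (Subtype.ext hy')⟩
  obtain ⟨_, _, _⟩ := WLocal.isProfinite_closedPoints hB
  let e : ProEtW.closedPoints (PrimeSpectrum B) ≃ₜ C :=
    Continuous.homeoOfEquivCompactToT2 (f := Equiv.ofBijective φ hφ)
      (((hemb.continuous.comp continuous_subtype_val).subtype_mk _).subtype_mk _)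
  haveI : ExtremallyDisconnected (_root_.ConnectedComponents (PrimeSpectrum B)) :=
    extremallyDisconnected_of_homeo (e.symm.trans (WLocal.closedPointsEquiv hB))
  refine WLocal.isWContractible_of_conditions hB fun n _ ↦ WLocal.sh_of_finite (A := A) n ?_
  haveI : (n.comap (algebraMap A B)).IsMaximal := Ideal.comap_isMaximal_of_surjective _ hsurj
  exact hsh _

lemma isCompact_preimage_of_retrocompact {V X : Scheme.{u}} (g : V ⟶ X) [CompactSpace V] {s : Set X}
    (hso : IsOpen s) (hs : IsRetrocompact s) : IsCompact (g ⁻¹' s) := by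
  have key : ∀ v : V, ∃ W : V.Opens, v ∈ W ∧ IsCompact ((W : Set V) ∩ g ⁻¹' s) := by
    intro v
    obtain ⟨_, ⟨O', hO, rfl⟩, hvO, -⟩ :=
      X.isBasis_affineOpens.exists_subset_of_mem_open (mem_univ (g v)) isOpen_univ
    let O : X.Opens := O'
    obtain ⟨_, ⟨W', hW, rfl⟩, hvW, hWO⟩ :=
      V.isBasis_affineOpens.exists_subset_of_mem_open (show v ∈ g ⁻¹ᵁ O from hvO) (g ⁻¹ᵁ O).isOpen
    let W : V.Opens := W'
    refine ⟨W, hvW, ?_⟩
    haveI : IsAffine W.toScheme := hW
    haveI : IsAffine O.toScheme := hO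
    let r := g.resLE O W hWO
    have hso' : IsOpen (O.ι ⁻¹' s) := hso.preimage O.ι.continuous
    have hsc : IsCompact (O.ι ⁻¹' s) := by
      rw [O.ι.isOpenEmbedding.isInducing.isCompact_iff, image_preimage_eq_inter_range,
        Scheme.Opens.range_ι]
      exact hs (IsAffineOpen.isCompact hO) O.isOpen
    have hc := r.isSpectralMap.isCompact_preimage_of_isOpen hso' hsc
    have himg : W.ι '' (r ⁻¹' (O.ι ⁻¹' s)) = (W : Set V) ∩ g ⁻¹' s := by
      rw [← preimage_comp, show (O.ι : O.toScheme → X) ∘ r = ⇑(r ≫ O.ι) from rfl, g.resLE_comp_ι,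
        show ⇑(W.ι ≫ g) = g ∘ W.ι from rfl, preimage_comp, image_preimage_eq_inter_range, Scheme.Opens.range_ι, inter_comm]
    rw [← himg]
    exact hc.image W.ι.continuous
  choose W hvW hWc using key
  obtain ⟨t, ht⟩ := isCompact_univ.elim_finite_subcover (fun v ↦ (W v : Set V))
    (fun v ↦ (W v).isOpen) fun v _ ↦ mem_iUnion.2 ⟨v, hvW v⟩
  have : g ⁻¹' s = ⋃ v ∈ t, ((W v : Set V) ∩ g ⁻¹' s) := by
    refine Subset.antisymm (fun x hx ↦ ?_) (iUnion₂_subset fun v _ ↦ inter_subset_right)
    obtain ⟨v, hv, hxv⟩ := mem_iUnion₂.1 (ht (mem_univ x))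
    exact mem_iUnion₂.2 ⟨v, hv, hxv, hx⟩
  rw [this]
  exact t.finite_toSet.isCompact_biUnion fun v _ ↦ hWc v

lemma isWC_bcP_of_closedImmersion {Z X : Scheme.{u}} (i : Z ⟶ X) [IsClosedImmersion i]
    (hr : IsRetrocompact (range i.base)ᶜ)
    (V : X.ProEt) [IsAffine V.left] (hV : EtPBC.IsWContractible Γ(V.left, ⊤)) :
    ProEtS.IsWC ((ProEtS.bcP i).obj V) := by
  let p : ((ProEtS.bcP i).obj V).left ⟶ V.left := pullback.fst V.hom i
  haveI : IsClosedImmersion p :=
    MorphismProperty.pullback_fst (P := @IsClosedImmersion) _ _ ‹IsClosedImmersion i›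
  haveI : IsAffine ((ProEtS.bcP i).obj V).left := isAffine_of_isAffineHom p
  letI : Algebra Γ(V.left, ⊤) Γ(((ProEtS.bcP i).obj V).left, ⊤) := p.appTop.hom.toAlgebra
  refine (isWC_iff_hasSections _).2 ((isWContractible_iff_hasSections _).1
    (isWContractible_of_surjective ((HasAffineProperty.iff_of_isAffine (P := @IsClosedImmersion)).1 (inferInstanceAs (IsClosedImmersion p))).2 ?_ hV))
  have hrange : range p = V.hom ⁻¹' range i := Scheme.Pullback.range_fst V.hom i
  have hc : IsCompact (range p)ᶜ := by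
    rw [hrange, ← preimage_compl]
    haveI : CompactSpace V.left := inferInstance
    exact @isCompact_preimage_of_retrocompact _ _ V.hom ‹CompactSpace V.left› _
      i.isClosedEmbedding.isClosed_range.isOpen_compl hr
  have heq : range (Spec.map p.appTop) = V.left.isoSpec.hom '' range p := by
    have e : p ≫ V.left.isoSpec.hom = _ := (Scheme.isoSpec_hom_naturality p).symm
    rw [← range_comp, show (V.left.isoSpec.hom : _ → _) ∘ p = ⇑(p ≫ V.left.isoSpec.hom) from rfl]
    refine Eq.trans ?_ (congrArg (fun q : _ ⟶ Spec Γ(V.left, ⊤) ↦ range q) e).symm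
    exact (Function.Surjective.range_comp
      ((ProEtS.bcP i).obj V).left.isoSpec.hom.surjective _).symm
  change IsCompact (range (Spec.map p.appTop))ᶜ
  rw [heq]
  have hb : Function.Bijective V.left.isoSpec.hom := V.left.isoSpec.hom.homeomorph.bijective
  exact (image_compl_eq hb).symm ▸ hc.image V.left.isoSpec.hom.continuous

end Groth.Agent.ProEtWC
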